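import Cfsg.Agent.H995.CopTwo
import Cfsg.Agent.Co2Type.Quad

/-!
# Coprime class sizes: groups with a large extraspecial subgroup (helper995, for S4158)
-/

set_option autoImplicit false

namespace Cfsg.Agent.H995.CopTwo

open Subgroup Cfsg.Agent.H530.Cop Cfsg.Agent.Co2Type.Quad

variable {G : Type*} [Group G] {Q : Subgroup G} {z : G}

theorem not_comm_of_card [Finite G] [IsSimpleGroup G] (h : ¬ (Nat.card G).Prime) : ¬ IsMulCommutative G := by
  intro hm
  apply h
  let _ : CommGroup G := { (inferInstance : Group G) with mul_comm := hm.is_comm.comm }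
  exact IsSimpleGroup.prime_card

theorem large_pGroup (h : Large Q z) : IsPGroup 2 Q := by
  intro x
  refine ⟨2, Subtype.ext ?_⟩
  have h1 : (x : G) ^ 4 = 1 := by
    have h0 : (x : G) ^ 4 = (x * x) * (x * x) := by
      rw [← pow_two, ← pow_two, ← pow_mul]
    rcases h.sq x x.2 with h2 | h2
    · rw [h0, h2, one_mul]
    · rw [h0, h2, h.z_sq]
  exact h1

theorem large_cent (h : Large Q z) {x : G} (hx : ∀ u ∈ Q, u * x = x * u) : x = 1 ∨ x = z := by
  have h1 := h.self x (hx z h.z_mem).symm (fun u hu => (hx u hu).symm)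
  exact h.cent x h1 (fun y hy => (hx y hy).symm)

/-- **NoCop from a 2-subgroup whose centralizer has order two.** -/
theorem noCop_of_z [Finite G] [IsSimpleGroup G] (hna : ¬ IsMulCommutative G) {p : ℕ} (hp : p.Prime)
    (hQ : IsPGroup p Q) (hz : ∀ x : G, (∀ u ∈ Q, u * x = x * u) → x = 1 ∨ x = z)
    (N c : ℕ) (hN : Nat.card G = N) (hc : Nat.card (centralizer ({z} : Set G)) ∣ c)
    (L : List (ℕ × ℕ)) (hL : chk N c L = true) (hp' : ∀ a ∈ L, a.1.Prime)
    (hk : ∃ k, N ∣ (p * (L.map Prod.fst).prod) ^ k) : NoCop G := by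
  refine noCop_of_card hna hp Q hQ N c hN (fun x hx hxU => ?_) L hL hp' hk
  rcases hz x hxU with h1 | h1
  · rw [h1, orderOf_one] at hx
    exact absurd hx Nat.not_prime_one
  · rw [h1]; exact hc

theorem noCop_of_large [Finite G] [IsSimpleGroup G] (hna : ¬ IsMulCommutative G) (h : Large Q z)
    (N c : ℕ) (hN : Nat.card G = N) (hc : Nat.card (centralizer ({z} : Set G)) ∣ c)
    (L : List (ℕ × ℕ)) (hL : chk N c L = true) (hp' : ∀ a ∈ L, a.1.Prime)
    (hk : ∃ k, N ∣ (2 * (L.map Prod.fst).prod) ^ k) : NoCop G :=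
  noCop_of_z hna Nat.prime_two (large_pGroup h) (fun _ hx => large_cent h hx) N c hN hc L hL hp' hk

end Cfsg.Agent.H995.CopTwo
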