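import Cfsg.Agent.H995.IMB
import Cfsg.Agent.BM.KHAll
import Cfsg.Agent.H678.DG.Basic

/-!
# Character degrees of the Baby Monster (helper995)

* `deg_b` : a group isomorphic to the Baby Monster has irreducible complex characters of degrees `96255`,
  `9458750`, `4275362520` and `9287037474` (the constituents of the rank five permutation
  character of degree `13571955000`);
* `im_b` : Itô-Michler for the Baby Monster;
* `facts_b` : its degree graph is connected, among three vertices two are adjacent, and there is a triangle;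
* `two_b` : for `p ≠ 7, 17` two different degrees are divisible by `p`.
-/

set_option autoImplicit false

open Cfsg Cfsg.Agent.Characters.Core

namespace Cfsg.Agent.H995.IMB

universe u

/-- The four degrees. -/
def ds : List ℕ := [96255, 9458750, 4275362520, 9287037474]

theorem deg_model {d : ℕ} (hd : d ∈ ds) : ∃ χ : Cfsg.Agent.BabyM.Inst.M.G → ℂ,
    IsIrrCharacter Cfsg.Agent.BabyM.Inst.M.G χ ∧ χ 1 = (d : ℂ) := by
  unfold ds at hd
  simp only [List.mem_cons, List.not_mem_nil, or_false] at hd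
  rcases hd with rfl | rfl | rfl | rfl
  · exact deg0
  · exact deg1
  · exact deg2
  · exact deg3

/-- **The degrees `96255`, `9458750`, `4275362520`, `9287037474` of the Baby Monster.** -/
theorem deg_b {S : Type u} [Group S] (h : Cfsg.Spor.IsoB S) {d : ℕ} (hd : d ∈ ds) :
    ∃ χ : IrrCharacter S, (χ : S → ℂ) 1 = (d : ℂ) ∧ charDegree (χ : S → ℂ) = d := by
  obtain ⟨e⟩ := h
  obtain ⟨χ, hχ, h1⟩ := deg_model hd
  let f : S ≃* Cfsg.Agent.BabyM.Inst.M.G := e.trans Cfsg.Agent.BM.KHAll.iso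
  have h2 : (χ ∘ f.toMonoidHom) 1 = (d : ℂ) := by
    rw [Function.comp_apply, map_one, h1]
  exact ⟨⟨χ ∘ f.toMonoidHom, isIrr_comp f.toMonoidHom f.surjective hχ⟩, h2,
    H670.PSing.charDegree_eq_of h2⟩

theorem card_of {S : Type u} [Group S] (h : Cfsg.Spor.IsoB S) :
    Nat.card S = 4154781481226426191177580544000000 := by
  obtain ⟨e⟩ := h
  rw [Nat.card_congr e.toEquiv, Cfsg.Agent.BM.KHAll.card_B]

/-- The primes. -/
def ps : List ℕ := [2, 3, 5, 7, 11, 13, 17, 19, 23, 31, 47]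

theorem ps_prime : ∀ p ∈ ps, p.Prime := by
  intro p hp
  unfold ps at hp
  simp only [List.mem_cons, List.not_mem_nil, or_false] at hp
  rcases hp with rfl | rfl | rfl | rfl | rfl | rfl | rfl | rfl | rfl | rfl | rfl <;> norm_num

theorem mem_ps {p : ℕ} (hp : p.Prime) (h : p ∣ 4154781481226426191177580544000000) : p ∈ ps := by
  have h0 : 4154781481226426191177580544000000 =
      2 ^ 41 * 3 ^ 13 * 5 ^ 6 * 7 ^ 2 * 11 * 13 * 17 * 19 * 23 * 31 * 47 := by norm_num
  rw [h0] at h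
  have key : ∀ {q k : ℕ}, q.Prime → p ∣ q ^ k → p = q := fun hq h =>
    (Nat.prime_dvd_prime_iff_eq hp hq).1 (hp.dvd_of_dvd_pow h)
  have key1 : ∀ {q : ℕ}, q.Prime → p ∣ q → p = q := fun hq h =>
    (Nat.prime_dvd_prime_iff_eq hp hq).1 h
  unfold ps
  simp only [List.mem_cons, List.not_mem_nil, or_false]
  rw [hp.dvd_mul, hp.dvd_mul, hp.dvd_mul, hp.dvd_mul, hp.dvd_mul, hp.dvd_mul, hp.dvd_mul,
    hp.dvd_mul, hp.dvd_mul, hp.dvd_mul] at h
  rcases h with (((((((((h | h) | h) | h) | h) | h) | h) | h) | h) | h) | h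
  · have := key (by norm_num) h; tauto
  · have := key (by norm_num) h; tauto
  · have := key (by norm_num) h; tauto
  · have := key (by norm_num) h; tauto
  all_goals have := key1 (by norm_num) h; tauto

/-- **Itô-Michler for the Baby Monster.** -/
theorem im_b {S : Type u} [Group S] (h : Cfsg.Spor.IsoB S) {p : ℕ} [hp : Fact p.Prime]
    (hd : p ∣ Nat.card S) : Cfsg.Agent.H33.IM p S := by
  have h1 : p ∈ ps := mem_ps hp.out (by rw [← card_of h]; exact hd)
  have key : ∀ d ∈ ds, p ∣ d → Cfsg.Agent.H33.IM p S := fun d hd hpd => by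
    obtain ⟨χ, -, hχ⟩ := deg_b h hd
    exact ⟨χ, by rw [hχ]; exact hpd⟩
  have h2 : ∃ d ∈ ds, p ∣ d := by
    have h3 : ∀ p ∈ ps, ∃ d ∈ ds, p ∣ d := by decide +kernel
    exact h3 p h1
  obtain ⟨d, hd, hpd⟩ := h2
  exact key d hd hpd

/-- **The degree graph of the Baby Monster.** -/
theorem facts_b {S : Type u} [Group S] (h : Cfsg.Spor.IsoB S) : H678.DG.Facts S := by
  have : Finite S := Nat.finite_of_card_ne_zero (by rw [card_of h]; norm_num)
  refine H678.DG.Facts.of_list (P := ps) (D := ds) ps_prime (by decide) ?_ ?_ (by decide +kernel)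
  · intro p hp
    obtain ⟨hpp, χ, hχ⟩ := H671.H5.mem_degreePrimes.1 hp
    refine mem_ps hpp ?_
    rw [← card_of h]
    exact dvd_trans hχ (Cfsg.Agent.Blocks.Knorr.charDegree_dvd χ.2)
  · intro d hd
    obtain ⟨χ, -, hχ⟩ := deg_b h hd
    exact ⟨χ, by rw [hχ]⟩

/-- Two different degrees divisible by `p`, for `p ≠ 7, 17`. -/
theorem two_b {S : Type u} [Group S] (h : Cfsg.Spor.IsoB S) {p : ℕ} (hp : p.Prime)
    (hd : p ∣ Nat.card S) (h7 : p ≠ 7) (h17 : p ≠ 17) : ∃ χ ψ : IrrCharacter S,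
      p ∣ charDegree (χ : S → ℂ) ∧ p ∣ charDegree (ψ : S → ℂ) ∧
        charDegree (χ : S → ℂ) ≠ charDegree (ψ : S → ℂ) := by
  have h1 : p ∈ ps := mem_ps hp (by rw [← card_of h]; exact hd)
  have h2 : ∀ p ∈ ps, p ≠ 7 → p ≠ 17 → ∃ d ∈ ds, ∃ d' ∈ ds, p ∣ d ∧ p ∣ d' ∧ d ≠ d' := by
    decide +kernel
  obtain ⟨d, hd, d', hd', h3, h4, h5⟩ := h2 p h1 h7 h17
  obtain ⟨χ, -, hχ⟩ := deg_b h hd
  obtain ⟨ψ, -, hψ⟩ := deg_b h hd'
  exact ⟨χ, ψ, by rw [hχ]; exact h3, by rw [hψ]; exact h4, by rw [hχ, hψ]; exact h5⟩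

end Cfsg.Agent.H995.IMB
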