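import Cfsg.Agent.H530.Cop

/-!
# Coprime class sizes: the method of a centralizing `p`-subgroup (helper995, for S4158)

* `noCop_of_full` : `U` is a `p`-subgroup and every element of prime order centralizing `U` has class size divisible by
  all the primes `≠ p` dividing `|G|`; then `NoCop G`;
* `noCop_of_card` : the same with the orders of the centralizers;
* `Bad x y` : all the facts on a counterexample `x`, `y` with `¬ p ∣ ci x`; `noCop_of_bad`.
-/

set_option autoImplicit false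

namespace Cfsg.Agent.H995.CopTwo

open Subgroup Cfsg.Agent.H530.Cop

variable {G : Type*} [Group G]

theorem ci_ne_prime_pow [Finite G] [IsSimpleGroup G] (hna : ¬ IsMulCommutative G) {y : G} (hy : y ≠ 1) {p : ℕ}
    (hp : p.Prime) (h : ∀ r : ℕ, r.Prime → r ∣ ci y → r = p) : False := by
  refine ne_prime_pow hna hy (p := p) (k := (ci y).primeFactorsList.length) hp ?_
  exact Nat.eq_prime_pow_of_unique_prime_dvd (ci_ne_zero y) (fun {d} hd hdv => h d hd hdv)

/-- **The method of a centralizing `p`-subgroup.** -/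
theorem noCop_of_full [Finite G] [IsSimpleGroup G] (hna : ¬ IsMulCommutative G) {p : ℕ} (hp : p.Prime)
    (U : Subgroup G) (hU : IsPGroup p U)
    (H : ∀ x : G, (orderOf x).Prime → (∀ u ∈ U, u * x = x * u) → ∀ r : ℕ, r.Prime → r ∣ Nat.card G → r ≠ p →
      r ∣ ci x) : NoCop G := by
  refine noCop_of_char hna hp U hU fun x y hx hy _ hc _ hxU => ?_
  have hy1 : y ≠ 1 := fun h => by rw [h, orderOf_one] at hy; exact Nat.not_prime_one hy
  refine ci_ne_prime_pow hna hy1 hp fun r hr hd => ?_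
  by_contra hne
  have h1 := H x hx hxU r hr (hd.trans (ci_dvd_card y)) hne
  have h2 := Nat.dvd_gcd h1 hd
  rw [hc] at h2
  exact hr.one_lt.ne' (Nat.dvd_one.1 h2)

/-- the class size is divisible by `r` if the `r`-part of the order of the centralizer is not full -/
theorem dvd_ci_of_not_dvd [Finite G] {x : G} {r k : ℕ} (hr : r.Prime) (h1 : r ^ k ∣ Nat.card G)
    (h2 : ¬ r ^ k ∣ Nat.card (centralizer ({x} : Set G))) : r ∣ ci x := by
  by_contra h
  apply h2
  rw [← ci_mul_card x] at h1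
  exact (Nat.Coprime.dvd_of_dvd_mul_left
    (Nat.Coprime.pow_left k ((Nat.Prime.coprime_iff_not_dvd hr).2 h)) h1)

/-- the list form: `L` is a list of pairs `(r, k)` with `r ^ k ∣ N` and `¬ r ^ k ∣ c` -/
def chk (N c : ℕ) (L : List (ℕ × ℕ)) : Bool :=
  L.all fun a => Nat.beq (N % a.1 ^ a.2) 0 && !Nat.beq (c % a.1 ^ a.2) 0

theorem of_chk {N c : ℕ} {L : List (ℕ × ℕ)} (h : chk N c L = true) {r k : ℕ} (hm : (r, k) ∈ L) :
    r ^ k ∣ N ∧ ¬ r ^ k ∣ c := by
  unfold chk at h
  rw [List.all_eq_true] at h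
  have h1 := h _ hm
  rw [Bool.and_eq_true, Bool.not_eq_true'] at h1
  refine ⟨Nat.dvd_of_mod_eq_zero (Nat.eq_of_beq_eq_true h1.1), fun hd => ?_⟩
  have h2 : c % r ^ k = 0 := Nat.mod_eq_zero_of_dvd hd
  rw [h2] at h1
  exact absurd h1.2 (by simp)

/-- The form with orders: every element of prime order centralizing `U` has centralizer of order `c` (or some divisor
of `c`); `N` divides a power of `p * (the product of the primes of L)`. -/
theorem noCop_of_card [Finite G] [IsSimpleGroup G] (hna : ¬ IsMulCommutative G) {p : ℕ} (hp : p.Prime)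
    (U : Subgroup G) (hU : IsPGroup p U) (N c : ℕ) (hN : Nat.card G = N)
    (H : ∀ x : G, (orderOf x).Prime → (∀ u ∈ U, u * x = x * u) → Nat.card (centralizer ({x} : Set G)) ∣ c)
    (L : List (ℕ × ℕ)) (hL : chk N c L = true) (hp' : ∀ a ∈ L, a.1.Prime)
    (hk : ∃ k, N ∣ (p * (L.map Prod.fst).prod) ^ k) : NoCop G := by
  refine noCop_of_full hna hp U hU fun x hx hxU r hr hd hne => ?_
  obtain ⟨k, hk⟩ := hk
  rw [hN] at hd
  have h1 : r ∣ p * (L.map Prod.fst).prod := hr.dvd_of_dvd_pow (hd.trans hk)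
  rcases hr.dvd_mul.1 h1 with h2 | h2
  · exact absurd ((Nat.prime_dvd_prime_iff_eq hr hp).1 h2) hne
  · obtain ⟨a, ha, hra⟩ := (Prime.dvd_prod_iff hr.prime).1 h2
    obtain ⟨⟨s, j⟩, hm, rfl⟩ := List.mem_map.1 ha
    have hs := hp' _ hm
    have hrs : r = s := (Nat.prime_dvd_prime_iff_eq hr hs).1 hra
    subst hrs
    obtain ⟨h3, h4⟩ := of_chk hL hm
    refine dvd_ci_of_not_dvd hr (k := j) (by rw [hN]; exact h3) fun h5 => h4 (h5.trans (H x hx hxU))

/-- the index of `C(x) ⊓ C(y)` in `C(x)` for coprime class sizes -/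
theorem card_inf [Finite G] {x y : G} (h : (ci x).Coprime (ci y)) :
    Nat.card ↥(centralizer ({x} : Set G) ⊓ centralizer ({y} : Set G)) * ci y =
      Nat.card (centralizer ({x} : Set G)) := by
  have h1 := card_mul_index (centralizer ({x} : Set G) ⊓ centralizer ({y} : Set G))
  have hle : (centralizer ({x} : Set G) ⊓ centralizer ({y} : Set G)).index ≤ ci x * ci y := index_inf_le
  have hdv : ci x * ci y ∣ (centralizer ({x} : Set G) ⊓ centralizer ({y} : Set G)).index :=
    h.mul_dvd_of_dvd_of_dvd (index_dvd_of_le inf_le_left) (index_dvd_of_le inf_le_right)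
  have heq : (centralizer ({x} : Set G) ⊓ centralizer ({y} : Set G)).index = ci x * ci y :=
    le_antisymm hle (Nat.le_of_dvd (Nat.pos_of_ne_zero index_ne_zero_of_finite) hdv)
  rw [heq, ← ci_mul_card x] at h1
  have hx : 0 < ci x := Nat.pos_of_ne_zero (ci_ne_zero x)
  apply Nat.eq_of_mul_eq_mul_left hx
  rw [← h1]
  ring

/-- The facts on a counterexample. -/
structure Bad (x y : G) : Prop where
  hx : (orderOf x).Prime
  hy : (orderOf y).Prime
  ne : orderOf x ≠ orderOf y
  cop : (ci x).Coprime (ci y)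

theorem Bad.symm {x y : G} (h : Bad x y) : Bad y x := ⟨h.hy, h.hx, h.ne.symm, h.cop.symm⟩

theorem Bad.x1 {x y : G} (h : Bad x y) : x ≠ 1 := fun h1 => by
  have := h.hx
  rw [h1, orderOf_one] at this
  exact Nat.not_prime_one this

theorem Bad.y1 {x y : G} (h : Bad x y) : y ≠ 1 := h.symm.x1

theorem Bad.not_comm [Finite G] [IsSimpleGroup G] (hna : ¬ IsMulCommutative G) {x y : G} (h : Bad x y) (g k : G) :
    (g * x * g⁻¹) * (k * y * k⁻¹) ≠ (k * y * k⁻¹) * (g * x * g⁻¹) :=
  Cfsg.Agent.H530.Cop.not_comm hna h.x1 h.y1 h.cop g k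

/-- no conjugate of `x` commutes with `y` -/
theorem Bad.not_comm' [Finite G] [IsSimpleGroup G] (hna : ¬ IsMulCommutative G) {x y x' : G} (h : Bad x y)
    (hc : IsConj x x') : x' * y ≠ y * x' := by
  obtain ⟨g, rfl⟩ := isConj_iff.1 hc
  have := h.not_comm hna g 1
  simpa using this

theorem Bad.prime_dvd [Finite G] {x y : G} (h : Bad x y) {r : ℕ} (hr : r.Prime) (h1 : r ∣ ci x) : ¬ r ∣ ci y := by
  intro h2
  have h3 := Nat.dvd_gcd h1 h2
  rw [h.cop] at h3
  exact hr.one_lt.ne' (Nat.dvd_one.1 h3)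

/-- `C(y)` contains a Sylow `r`-subgroup if `r` divides the class size of `x` -/
theorem Bad.pow_dvd [Finite G] {x y : G} (h : Bad x y) {r : ℕ} (hr : r.Prime) (h1 : r ∣ ci x) {k : ℕ}
    (hk : r ^ k ∣ Nat.card G) : r ^ k ∣ Nat.card (centralizer ({y} : Set G)) := by
  rw [← ci_mul_card y] at hk
  exact Nat.Coprime.dvd_of_dvd_mul_left
    (Nat.Coprime.pow_left k ((Nat.Prime.coprime_iff_not_dvd hr).2 (h.prime_dvd hr h1))) hk

theorem Bad.ne_prime_pow [Finite G] [IsSimpleGroup G] (hna : ¬ IsMulCommutative G) {x y : G} (h : Bad x y) {p : ℕ}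
    (hp : p.Prime) : ∃ r : ℕ, r.Prime ∧ r ∣ ci y ∧ r ≠ p := by
  by_contra hcon
  push Not at hcon
  exact ci_ne_prime_pow hna h.y1 hp hcon

theorem Bad.card_inf [Finite G] {x y : G} (h : Bad x y) :
    Nat.card ↥(centralizer ({x} : Set G) ⊓ centralizer ({y} : Set G)) * ci y =
      Nat.card (centralizer ({x} : Set G)) := Cfsg.Agent.H995.CopTwo.card_inf h.cop

/-- a Sylow `r`-subgroup of `C(x)` is in `C(x) ⊓ C(y)` if `r` divides the class size of `x` -/
theorem Bad.pow_dvd_inf [Finite G] {x y : G} (h : Bad x y) {r : ℕ} (hr : r.Prime) (h1 : r ∣ ci x) {k : ℕ}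
    (hk : r ^ k ∣ Nat.card (centralizer ({x} : Set G))) :
    r ^ k ∣ Nat.card ↥(centralizer ({x} : Set G) ⊓ centralizer ({y} : Set G)) := by
  rw [← h.card_inf] at hk
  exact Nat.Coprime.dvd_of_dvd_mul_right
    (Nat.Coprime.pow_left k ((Nat.Prime.coprime_iff_not_dvd hr).2 (h.prime_dvd hr h1))) hk

/-- the element `z` of prime order `r` commuting with `y`, if `r` divides the class size of `x` -/
theorem Bad.exists_comm [Finite G] {x y : G} (h : Bad x y) {r : ℕ} (hr : r.Prime) (h1 : r ∣ ci x)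
    (hd : r ∣ Nat.card G) : ∃ w : G, orderOf w = r ∧ w * y = y * w := by
  have : Fact r.Prime := ⟨hr⟩
  have h2 : r ∣ Nat.card (centralizer ({y} : Set G)) := by
    have := h.pow_dvd hr h1 (k := 1) (by rwa [pow_one])
    rwa [pow_one] at this
  obtain ⟨w, hw⟩ := exists_prime_orderOf_dvd_card' r h2
  exact ⟨w, by rw [← hw, orderOf_coe], mem_cent.1 w.2⟩

/-- `C(y)` has odd order if all the involutions are conjugate to `x` -/
theorem Bad.odd [Finite G] [IsSimpleGroup G] (hna : ¬ IsMulCommutative G) {x y : G} (h : Bad x y)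
    (h2 : ∀ t : G, orderOf t = 2 → IsConj x t) : ¬ 2 ∣ Nat.card (centralizer ({y} : Set G)) := by
  intro hd
  have : Fact (Nat.Prime 2) := ⟨Nat.prime_two⟩
  obtain ⟨w, hw⟩ := exists_prime_orderOf_dvd_card' 2 hd
  exact h.not_comm' hna (h2 w (by rw [orderOf_coe]; exact hw)) (mem_cent.1 w.2)

/-- **The general form**: no `Bad x y` with `x` centralizing the `p`-subgroup `U`. -/
theorem noCop_of_bad [Finite G] [IsSimpleGroup G] (hna : ¬ IsMulCommutative G) {p : ℕ} (hp : p.Prime)
    (U : Subgroup G) (hU : IsPGroup p U)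
    (H : ∀ x y : G, Bad x y → ¬ p ∣ ci x → (∀ u ∈ U, u * x = x * u) → False) : NoCop G :=
  noCop_of_char hna hp U hU fun x y hx hy hne hc hd hxU => H x y ⟨hx, hy, hne, hc⟩ hd hxU

end Cfsg.Agent.H995.CopTwo
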