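import Cfsg.Agent.H995.CopEngine
import Cfsg.Agent.H995.CopTwo
import Cfsg.Agent.Solvable.Hall
import Cfsg.Agent.S0205
import Cfsg.Agent.OrdDiv.Table

/-!
# Coprime action, Hall subgroups, and the engine with the list of the known simple groups (helper995)
-/

set_option autoImplicit false

namespace Cfsg.Agent.H995.CopEngine

open Subgroup
open scoped Pointwise

universe u

section

variable {G : Type u} [Group G] [Finite G] {r : ℕ}

/-- an element of order `r` fixes a Sylow `p`-subgroup of a normal `r'`-subgroup -/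
theorem exists_fixed (hr : r.Prime) (N : Subgroup G) [N.Normal] (hrN : ¬ r ∣ Nat.card N) {w : G} (hw : w ^ r = 1)
    {p : ℕ} [Fact p.Prime] : ∃ P : Sylow p N, (MulAut.conjNormal w : MulAut N) • P = P := by
  classical
  have : Fact r.Prime := ⟨hr⟩
  have : Fintype (Sylow p N) := Fintype.ofFinite _
  set φ : MulAut N := MulAut.conjNormal w with hφdef
  have hφ : φ ^ r = 1 := by rw [hφdef, ← map_pow, hw, map_one]
  let f : Function.End (Sylow p N) := fun P => φ • P
  have hfn : ∀ n : ℕ, (f ^ n : Function.End (Sylow p N)) = fun x => (φ ^ n : MulAut N) • x := by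
    intro n
    induction n with
    | zero =>
      funext x
      rw [pow_zero, pow_zero, one_smul]
      rfl
    | succ n ih =>
      rw [pow_succ', ih]
      funext x
      rw [pow_succ', mul_smul]
      rfl
  have hf : f ^ r ^ 1 = 1 := by
    rw [pow_one, hfn, hφ]
    funext x
    rw [one_smul]
    rfl
  have h1 := Equiv.Perm.card_fixedPoints_modEq hf
  have h2 : ¬ r ∣ Fintype.card (Sylow p N) := by
    intro h
    rw [← Nat.card_eq_fintype_card] at h
    obtain ⟨P⟩ : Nonempty (Sylow p N) := inferInstance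
    exact hrN (h.trans ((Sylow.card_dvd_index P).trans (Subgroup.index_dvd_card _)))
  have h3 : Fintype.card f.fixedPoints ≠ 0 := by
    intro h
    rw [h] at h1
    exact h2 ((Nat.modEq_zero_iff_dvd).1 h1)
  obtain ⟨P, hP⟩ : Nonempty f.fixedPoints := by
    by_contra hcon
    rw [not_nonempty_iff] at hcon
    exact h3 (Fintype.card_eq_zero)
  exact ⟨P, hP⟩

/-- **Coprime action**: an element of order `r` centralizes a Sylow `p`-subgroup of a normal `r'`-subgroup. -/
theorem pow_dvd_cent (hr : r.Prime) (N : Subgroup G) [N.Normal] (hrN : ¬ r ∣ Nat.card N) {w : G} (hw : w ^ r = 1)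
    {p k : ℕ} (hp : p.Prime) (hpr : p ≠ r) (hk : p ^ k ∣ Nat.card N)
    (hc : ∀ i, 1 ≤ i → p ^ i ∣ Nat.card N → ¬ r ∣ p ^ i - 1) :
    p ^ k ∣ Nat.card (N ⊓ centralizer ({w} : Set G) : Subgroup G) := by
  have : Fact r.Prime := ⟨hr⟩
  have : Fact p.Prime := ⟨hp⟩
  obtain ⟨P, hP⟩ := exists_fixed hr N hrN hw (p := p)
  set P' : Subgroup G := (P : Subgroup N).map N.subtype with hP'
  have hPN : P' ≤ N := Subgroup.map_subtype_le _
  have hcard : Nat.card P' = Nat.card (P : Subgroup N) := Subgroup.card_map_of_injective N.subtype_injective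
  have hwn : w ∈ normalizer (P' : Set G) := by
    have h1 : ∀ (g : G), (MulAut.conjNormal g : MulAut N) • P = P → ∀ x ∈ P', g * x * g⁻¹ ∈ P' := by
      intro g hg x hx
      obtain ⟨y, hy, rfl⟩ := hx
      have h2 : (MulAut.conjNormal g : MulAut N) • y ∈ (MulAut.conjNormal g : MulAut N) • (P : Subgroup N) :=
        Subgroup.smul_mem_pointwise_smul _ _ _ hy
      have h3 : ((MulAut.conjNormal g : MulAut N) • (P : Subgroup N)) = (P : Subgroup N) := by
        have h4 := congrArg (fun Q : Sylow p N => (Q : Subgroup N)) hg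
        exact h4
      rw [h3] at h2
      refine ⟨_, h2, ?_⟩
      show ((MulAut.conjNormal g y : N) : G) = g * y * g⁻¹
      exact MulAut.conjNormal_apply g y
    have hP2 : (MulAut.conjNormal w⁻¹ : MulAut N) • P = P := by
      conv_lhs => rw [← hP]
      rw [map_inv, inv_smul_smul]
    rw [Subgroup.mem_normalizer_iff]
    intro x
    constructor
    · exact h1 w hP x
    · intro hx
      have h2 := h1 w⁻¹ hP2 _ hx
      have h3 : w⁻¹ * (w * x * w⁻¹) * w⁻¹⁻¹ = x := by group
      rwa [h3] at h2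
  set φ : MulAut P' := Subgroup.normalizerMonoidHom P' ⟨w, hwn⟩ with hφ
  have hφr : φ ^ r = 1 := by
    rw [hφ, ← map_pow]
    have h1 : (⟨w, hwn⟩ : normalizer (P' : Set G)) ^ r = 1 := Subtype.ext hw
    rw [h1, map_one]
  obtain ⟨v, hv⟩ := IsPGroup.iff_card.1 P.2
  have hv' : Nat.card P' = p ^ v := by rw [hcard]; exact hv
  have hcond : Cfsg.Agent.H961.PrimeSection.Cond r (p ^ v) := by
    intro s i hs hsr hi hd
    have h1 : s = p := (Nat.prime_dvd_prime_iff_eq hs hp).1
      (hs.dvd_of_dvd_pow ((dvd_pow_self s (by omega)).trans hd))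
    subst h1
    apply hc i hi
    refine hd.trans ?_
    rw [← hv']
    exact Subgroup.card_dvd_of_le hPN
  have hφ1 : φ = 1 := Cfsg.Agent.H961.PrimeSection.aut_eq_one hp hpr hv' hcond hφr
  have hcent : w ∈ centralizer (P' : Set G) := by
    have h2 : (⟨w, hwn⟩ : normalizer (P' : Set G)) ∈ (Subgroup.normalizerMonoidHom P').ker := hφ1
    rw [Subgroup.normalizerMonoidHom_ker] at h2
    exact h2
  have hle : P' ≤ N ⊓ centralizer ({w} : Set G) := by
    refine le_inf hPN fun x hx => ?_
    rw [Subgroup.mem_centralizer_singleton_iff]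
    exact Subgroup.mem_centralizer_iff.1 hcent x hx
  refine dvd_trans ?_ (Subgroup.card_dvd_of_le hle)
  rw [hcard, Sylow.card_eq_multiplicity]
  exact pow_dvd_pow p ((hp.pow_dvd_iff_le_factorization Nat.card_pos.ne').1 hk)

/-- intersection with a normal subgroup of index prime to `q` -/
theorem pow_dvd_inf (N D : Subgroup G) [N.Normal] {q k : ℕ} (hq : q.Prime) (hqN : ¬ q ∣ N.index)
    (hD : q ^ k ∣ Nat.card D) : q ^ k ∣ Nat.card (D ⊓ N : Subgroup G) := by
  have h1 := Subgroup.relIndex_mul_relIndex ⊥ (D ⊓ N) D bot_le inf_le_left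
  rw [Subgroup.relIndex_bot_left, Subgroup.relIndex_bot_left, Subgroup.inf_relIndex_left] at h1
  rw [← h1] at hD
  refine Nat.Coprime.dvd_of_dvd_mul_right (Nat.Coprime.pow_left k ((Nat.Prime.coprime_iff_not_dvd hq).2 fun h => hqN ?_)) hD
  exact h.trans (Subgroup.relIndex_dvd_index_of_normal N D)

end

/-! ### The engine with the known simple groups -/

open Cfsg Cfsg.Agent.OrdDiv

/-- the classification, as a hypothesis -/
def AllKnown : Prop := ∀ (S : Type u) [Group S] [Finite S] [IsSimpleGroup S], IsKnownSimple' S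

theorem exists_cand (hK : AllKnown.{u}) {S : Type u} [Group S] [Finite S] [IsSimpleGroup S] (hna : ¬ ∀ a b : S, a * b = b * a)
    {l : List (ℕ × ℕ)} {N : ℕ} (hv : valid l N = true) (hd : Nat.card S ∣ N) :
    ∃ g ∈ cands l N, Nat.card S = ordN g := by
  obtain ⟨g, h1, -, h3⟩ := exists_good table (hK S) hna hv hd
  exact ⟨g, h1, h3⟩

/-- the check: all the candidates of order divisible by `r` and different from `N` are of order `m` -/
def chkOne (l : List (ℕ × ℕ)) (N r m : ℕ) : Bool :=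
  (cands l N).all fun g => !Nat.beq (ordN g % r) 0 || Nat.beq (ordN g) N || Nat.beq (ordN g) m

theorem card_of_chk (hK : AllKnown.{u}) {S : Type u} [Group S] [Finite S] [IsSimpleGroup S] (hna : ¬ ∀ a b : S, a * b = b * a)
    {l : List (ℕ × ℕ)} {N r m : ℕ} (hv : valid l N = true) (hd : Nat.card S ∣ N) (hr : r ∣ Nat.card S)
    (hne : Nat.card S ≠ N) (hc : chkOne l N r m = true) : Nat.card S = m := by
  obtain ⟨g, hg, ho⟩ := exists_cand hK hna hv hd
  have h1 := (List.all_eq_true.1 hc) g hg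
  rw [Bool.or_eq_true, Bool.or_eq_true] at h1
  rcases h1 with (h1 | h1) | h1
  · rw [ho] at hr
    rw [Nat.mod_eq_zero_of_dvd hr] at h1
    simp at h1
  · exact absurd (ho.trans (Nat.eq_of_beq_eq_true h1)) hne
  · exact ho.trans (Nat.eq_of_beq_eq_true h1)

/-- **The engine for a proper subgroup of a group of order `N`.** -/
theorem exists_normal (hK : AllKnown.{u}) {G : Type u} [Group G] [Finite G] {H : Subgroup G} (hH : H ≠ ⊤) {l : List (ℕ × ℕ)} {N r m : ℕ}
    (hN : Nat.card G = N) (hv : valid l N = true) (hr : r.Prime) (hd : r ∣ Nat.card H) (h2 : ¬ r ^ 2 ∣ N)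
    (hc : chkOne l N r m = true) (hm : ∀ d, d ∣ m → d % r = 1 → d = 1 ∨ d = r + 1) :
    ∃ K : Subgroup H, K.Normal ∧ ¬ r ∣ Nat.card K ∧ K.index ∣ r * (r - 1) * (r + 1) := by
  have hHN : Nat.card H ∣ N := hN ▸ Subgroup.card_subgroup_dvd_card H
  refine main hr hd (fun h => h2 (h.trans hHN)) ?_
  intro S _ _ hs hna hSH hrS
  have hne : Nat.card S ≠ N := by
    intro h
    apply hH
    apply Subgroup.eq_top_of_card_eq
    apply Nat.dvd_antisymm (Subgroup.card_subgroup_dvd_card H)
    rw [hN, ← h]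
    exact hSH
  have h3 := card_of_chk hK hna hv (hSH.trans hHN) hrS hne hc
  rw [h3]
  exact hm

/-! ### Checks -/

/-- `r` does not divide `p ^ i - 1` for `1 ≤ i ≤ m` -/
def condB (r p m : ℕ) : Bool := (List.range m).all fun i => !Nat.beq ((p ^ (i + 1) - 1) % r) 0

theorem cond_of_chk {r p m N : ℕ} (hp : p.Prime) (hN : ¬ p ^ (m + 1) ∣ N) (hc : condB r p m = true) :
    ∀ i, 1 ≤ i → p ^ i ∣ N → ¬ r ∣ p ^ i - 1 := by
  intro i hi hd hr
  have him : i ≤ m := by
    by_contra hcon
    exact hN ((pow_dvd_pow p (by omega)).trans hd)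
  have h1 := (List.all_eq_true.1 hc) (i - 1) (List.mem_range.2 (by omega))
  rw [Nat.sub_add_cancel hi, Nat.mod_eq_zero_of_dvd hr] at h1
  simp at h1

theorem cond_mono {r p M N : ℕ} (h : ∀ i, 1 ≤ i → p ^ i ∣ N → ¬ r ∣ p ^ i - 1) (hd : M ∣ N) :
    ∀ i, 1 ≤ i → p ^ i ∣ M → ¬ r ∣ p ^ i - 1 := fun i hi h1 => h i hi (h1.trans hd)

/-- the divisors `≡ 1 mod r` of the order of the simple group -/
theorem dvd_mod_one {r m : ℕ} (hr : r.Prime) (m' K : ℕ) (hm : r * m' = m) (hm0 : 0 < m') (hK : m' < r * K)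
    (hk : ∀ k < K, (r * k + 1) ∣ m' → k = 0 ∨ k = 1) : ∀ d, d ∣ m → d % r = 1 → d = 1 ∨ d = r + 1 := by
  intro d hd h1
  have hc : Nat.Coprime d r := by
    rw [Nat.coprime_comm, Nat.Prime.coprime_iff_not_dvd hr]
    intro h
    rw [Nat.mod_eq_zero_of_dvd h] at h1
    omega
  have h2 : d ∣ m' := hc.dvd_of_dvd_mul_left (by rwa [hm])
  have h3 := Nat.le_of_dvd hm0 h2
  have h4 : r * (d / r) + 1 = d := by
    have := Nat.div_add_mod d r
    rw [h1] at this
    exact this
  have hkK : d / r < K := by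
    by_contra hcon
    push Not at hcon
    have := Nat.mul_le_mul_left r hcon
    omega
  rw [← h4] at h2
  rcases hk _ hkK h2 with h5 | h5
  · left; rw [← h4, h5]; simp
  · right; rw [← h4, h5]; simp

/-- the `p`-part of a normal subgroup whose index is known -/
theorem pow_dvd_normal {H : Type u} [Group H] [Finite H] (K : Subgroup H) {p k j n : ℕ} (hp : p.Prime)
    (hk : p ^ (k + j) ∣ Nat.card H) (hn : K.index ∣ n) (hj : ¬ p ^ (j + 1) ∣ n) : p ^ k ∣ Nat.card K := by
  have h0 : Nat.card K ≠ 0 := Nat.card_pos.ne'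
  have h1 : K.index ≠ 0 := K.index_ne_zero_of_finite
  rw [← K.card_mul_index, hp.pow_dvd_iff_le_factorization (mul_ne_zero h0 h1), Nat.factorization_mul h0 h1,
    Finsupp.add_apply] at hk
  have h2 : ¬ j + 1 ≤ K.index.factorization p := by
    intro h
    exact hj (((hp.pow_dvd_iff_le_factorization h1).2 h).trans hn)
  rw [hp.pow_dvd_iff_le_factorization h0]
  omega

/-- the `p`-part of the centralizer of an element of order `r` -/
theorem pow_dvd_centralizer {G : Type u} [Group G] [Finite G] {H : Subgroup G} {r : ℕ} (hr : r.Prime)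
    (K : Subgroup H) [K.Normal] (hrK : ¬ r ∣ Nat.card K) {w : H} (hw : orderOf w = r) {p k : ℕ} (hp : p.Prime)
    (hpr : p ≠ r) (hk : p ^ k ∣ Nat.card K) (hc : ∀ i, 1 ≤ i → p ^ i ∣ Nat.card G → ¬ r ∣ p ^ i - 1) :
    p ^ k ∣ Nat.card (centralizer ({(w : G)} : Set G)) := by
  have hKG : Nat.card K ∣ Nat.card G := (Subgroup.card_subgroup_dvd_card K).trans (Subgroup.card_subgroup_dvd_card H)
  have h1 := pow_dvd_cent hr K hrK (w := w) (by rw [← hw, pow_orderOf_eq_one]) hp hpr hk (cond_mono hc hKG)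
  refine h1.trans ?_
  rw [← Subgroup.card_map_of_injective H.subtype_injective]
  refine Subgroup.card_dvd_of_le ?_
  rintro _ ⟨g, hg, rfl⟩
  rw [Subgroup.mem_centralizer_singleton_iff]
  exact congrArg Subtype.val (Subgroup.mem_centralizer_singleton_iff.1 hg.2)

/-- **odd order**: `K` has odd order if no involution of `G` commutes with an element of order `r` -/
theorem odd_of_isolated {G : Type u} [Group G] [Finite G] {H : Subgroup G} {r : ℕ} (hr : r.Prime) (hr2 : 2 ≠ r)
    (K : Subgroup H) [K.Normal] (hrK : ¬ r ∣ Nat.card K) (hd : r ∣ Nat.card H)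
    (hc : ∀ i, 1 ≤ i → 2 ^ i ∣ Nat.card G → ¬ r ∣ 2 ^ i - 1)
    (hiso : ∀ t : G, orderOf t = 2 → ¬ r ∣ Nat.card (centralizer ({t} : Set G))) : ¬ 2 ∣ Nat.card K := by
  intro h2
  have : Fact r.Prime := ⟨hr⟩
  have : Fact (Nat.Prime 2) := ⟨Nat.prime_two⟩
  obtain ⟨w, hw⟩ := exists_prime_orderOf_dvd_card' r hd
  have hKG : Nat.card K ∣ Nat.card G := (Subgroup.card_subgroup_dvd_card K).trans (Subgroup.card_subgroup_dvd_card H)
  have h3 := pow_dvd_cent hr K hrK (w := w) (by rw [← hw, pow_orderOf_eq_one]) (p := 2) (k := 1) Nat.prime_two hr2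
    (by rwa [pow_one]) (cond_mono hc hKG)
  rw [pow_one] at h3
  obtain ⟨t, ht⟩ := exists_prime_orderOf_dvd_card' 2 h3
  have ht' : orderOf ((t : H) : G) = 2 := by rw [Subgroup.orderOf_coe, Subgroup.orderOf_coe]; exact ht
  apply hiso _ ht'
  have h4 : (w : G) * ((t : H) : G) = ((t : H) : G) * w := by
    have h5 := Subgroup.mem_centralizer_singleton_iff.1 t.2.2
    exact (congrArg Subtype.val h5).symm
  have h6 : orderOf (w : G) = r := by rw [Subgroup.orderOf_coe]; exact hw
  rw [← h6]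
  exact Subgroup.orderOf_dvd_natCard _ (Subgroup.mem_centralizer_singleton_iff.2 h4)

end Cfsg.Agent.H995.CopEngine

namespace Cfsg.Agent.H995.CopTwo

open Subgroup Cfsg.Agent.H530.Cop

theorem not_top_of_bad {G : Type*} [Group G] [Finite G] [IsSimpleGroup G] (hna : ¬ IsMulCommutative G) {x y : G}
    (h : Bad x y) : centralizer ({y} : Set G) ≠ ⊤ := by
  intro ht
  refine ci_ne_prime_pow hna h.y1 Nat.prime_two fun r hr hd => ?_
  have h1 : ci y = 1 := by
    show (centralizer ({y} : Set G)).index = 1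
    rw [ht, index_top]
  rw [h1] at hd
  exact absurd (Nat.dvd_one.1 hd) hr.one_lt.ne'

end Cfsg.Agent.H995.CopTwo
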