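import Cfsg.Agent.H995.NHFiTwo
import Cfsg.Agent.H393.Iso.Fi23
import Cfsg.Agent.H163.PG.Fi23
import Cfsg.Agent.LThreeFi23.CentUu

/-! # Row of the nilpotent Hall cluster: `Fi₂₃` (helper995) -/

set_option autoImplicit false
set_option maxRecDepth 100000
open Cfsg Subgroup

namespace Cfsg.Agent.H995.NH

open Cfsg.Agent.H241.NH
open Cfsg.Agent.H630.NH Cfsg.Agent.H393.Iso

/-! ### The prime 17 -/

section seventeen

open Cfsg.Agent.Fischer.Fi23Z Cfsg.Agent.Fischer.Fi23Hom
open Cfsg.Agent.Fischer Cfsg.Agent.Fischer.Fi23Class Cfsg.Agent.Fischer.Fi23Simple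
open Cfsg.Agent.KFacts.FiTTh.Cent
open Cfsg.Spor Cfsg.Spor.Fi23
open Cfsg.Agent.CTwoTab.Fi23

theorem fi23_z0_17 {x : Fi23} (hx : orderOf x = 17) (hxz : x * z0 = z0 * x) : False := by
  have := CTwoTab.Fi23Res.finite_Fi23
  refine not_comm_of_card ?_ hx hxz
  rw [← K_eq, card_K]
  norm_num

theorem na17_fi23_model : NA 17 Fi23 := by
  have := CTwoTab.Fi23Res.finite_Fi23
  refine NA.of_isConj (fun s => s = z0 ∨ s = W2 ∨ s = W3) (fun t ht ht1 => ?_) ?_
  · rcases KFacts.FiTTh.Has.inv t ht ht1 with h | h | h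
    · exact ⟨_, Or.inl rfl, h.symm⟩
    · exact ⟨_, Or.inr (Or.inl rfl), h.symm⟩
    · exact ⟨_, Or.inr (Or.inr rfl), h.symm⟩
  · rintro s (rfl | rfl | rfl) x hx hxs
    · exact fi23_z0_17 hx hxs
    · refine fi23_z0_17 hx (comm_of_small (p := 17) (by norm_num) (Z := Ds2) (Set.toFinite _) hx
        (fun z hz => perm2 hxs hz) ?_ z0 (Or.inl rfl))
      have h1 := Set.ncard_insert_le z0 ({gen .a} : Set Fi23)
      rw [Set.ncard_singleton] at h1
      exact lt_of_le_of_lt h1 (by norm_num)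
    · refine fi23_z0_17 hx (comm_of_small (p := 17) (by norm_num) (Z := Ds3) (Set.toFinite _) hx
        (fun z hz => perm3 hac hxs hz) ?_ z0 (Or.inl rfl))
      have h1 := Set.ncard_insert_le z0 ({gen .a, gen .c} : Set Fi23)
      have h2 := Set.ncard_insert_le (gen .a) ({gen .c} : Set Fi23)
      rw [Set.ncard_singleton] at h2
      exact lt_of_le_of_lt h1 (by omega)

theorem na17_fi23 {G : Type*} [Group G] (h : Spor.IsoFi23 G) : NA 17 G :=
  h.elim fun e => na17_fi23_model.of_equiv e.symm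

end seventeen

/-! ### The pair (3, 7) -/

section pair37

open Cfsg.Agent.LThreeFi23 Cfsg.Agent.Lib.PermNet
open Cfsg.Spor (Fi23)

theorem fr37_fi23 : Fr 3 7 Fi23 := by
  have e1 : elw [.f, .d, .e, .b, .c, .d] * elw [.a, .b, .c, .d, .e, .f] =
      elw [.a, .b, .c, .d, .e, .f] * elw [.a, .b, .c, .d, .e, .f] * elw [.f, .d, .e, .b, .c, .d] := by
    rw [← elw_append, ← elw_append, ← elw_append]
    exact elw_eq_of_checkEq (by decide +kernel)
  have e2 : elw [.f, .d, .e, .b, .c, .d] ^ 3 = 1 := by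
    rw [pow_succ, pow_two, ← elw_append, ← elw_append, ← elw_nil]
    exact elw_eq_of_checkEq (by decide +kernel)
  have e3 : elw [.a, .b, .c, .d, .e, .f] ^ 7 = 1 := by
    simp only [pow_succ, pow_zero, one_mul]
    rw [← elw_append, ← elw_append, ← elw_append, ← elw_append, ← elw_append, ← elw_append, ← elw_nil]
    exact elw_eq_of_checkEq (by decide +kernel)
  have e4 : elw [.a, .b, .c, .d, .e, .f] ≠ 1 := by
    intro h
    have h0 : ∃ i : ℕ, Nat.beq (ptWord (ntw [.a, .b, .c, .d, .e, .f]) i) i = false := ⟨50, by decide +kernel⟩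
    obtain ⟨i, h2⟩ := h0
    have h1 : Fischer.Fi23Hom.rho (elw [.a, .b, .c, .d, .e, .f]) i = i := by rw [h, map_one]; rfl
    rw [rho_elw, ← ptWord_eq (ntw_ok _)] at h1
    rw [h1] at h2
    exact Nat.ne_of_beq_eq_false h2 rfl
  refine fr_of_rel (by norm_num) (by norm_num) e2 e3 (m := 2) ?_ ?_
  · rw [e1, pow_two, mul_inv_cancel_right]
  · intro h
    apply e4
    rw [h] at e1
    have h3 := mul_right_cancel e1
    exact mul_left_cancel (h3.symm.trans (mul_one _).symm)

end pair37

/-! ### The prime 13 -/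

section thirteen

open Cfsg Cfsg.Spor Cfsg.Agent.Fischer Cfsg.Agent.Fischer.Abstract Cfsg.Agent.R01 Cfsg.Agent.R08.FiTwentyThree
open Cfsg.Agent.Fischer.Fi23Class (K)
open Cfsg.Agent.Fischer.Fi23Z (z0)
open Cfsg.Agent.H163.PG.FiTT Cfsg.Agent.H163.PG
open Cfsg.Agent.LThreeFi22 Subgroup

/-- an element of order 13 commutes with at most 25 transpositions -/
theorem fx13_le {x : Fi23} (hx : orderOf x = 13) (hxz : x * z0 = z0 * x) : (Fx x).ncard ≤ 25 := by
  have hfin := finite_fi23
  have hfin22 : Finite Fi22 := ctx22.finite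
  have f13 : Fact (Nat.Prime 13) := ⟨by norm_num⟩
  obtain ⟨Q, hQ0, hmemK, hQD, horb⟩ := exists_data
  obtain ⟨k, hk, hk13⟩ := exists_pi (r := 13) (by norm_num) (by norm_num) hx hxz
  have hkx : orderOf k = 13 := by rw [← Subgroup.orderOf_coe, hk, hx]
  -- the fixed points in the big orbit
  have hstab : ∀ a ∈ MulAction.orbit K Q.b, Nat.card (MulAction.stabilizer K a) = 4585351680 := by
    intro a ha
    have h1 := (MulAction.stabilizer K a).index_mul_card
    rw [MulAction.index_stabilizer, (MulAction.orbit_eq_iff.2 ha), horb, card_K'] at h1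
    exact Nat.eq_of_mul_eq_mul_left (by norm_num) h1
  have hX : Finite (Fi23 ⧸ K) := inferInstance
  have hfix := fix_le (p := 13) hkx (S := MulAction.orbit K Q.b) (Set.toFinite _)
    (fun a ha b hb => by
      obtain ⟨g, rfl⟩ := ha
      obtain ⟨h, rfl⟩ := hb
      exact ⟨h * g⁻¹, by simp [mul_smul]⟩)
    (fun a ha => by rw [hstab a ha]; norm_num) (cent_le hkx)
  set A : Set (Fi23 ⧸ K) := {a | a ∈ MulAction.orbit K Q.b ∧ k • a = a} with hA
  have hsub : Fx x ⊆ insert z0 (Q.t '' A) := by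
    rintro e ⟨heD, hxe⟩
    by_cases h1 : e = z0
    · exact Or.inl h1
    right
    have h3 : e ∈ Set.range Q.t := by rw [hQD]; exact heD
    obtain ⟨a, ha⟩ := h3
    by_cases h2 : e * z0 = z0 * e
    · exfalso
      let e' : K := ⟨e, (mem_K_iff e).2 h2⟩
      have heS : e' ∈ S := ⟨heD, h1⟩
      have h4 : pi e' * pi k = pi k * pi e' := by
        rw [← map_mul, ← map_mul]
        congr 1
        apply Subtype.ext
        show e * (k : Fi23) = k * e
        rw [hk]
        exact hxe.symm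
      have h5 : orderOf (pi e') ∣ 13 := by
        rw [← H713.Spor.Fi22.cent_13 (MulEquiv.refl Fi22) hk13,
          ← Subgroup.orderOf_mk (pi e') (mem_centralizer_singleton_iff.2 h4)]
        exact orderOf_dvd_natCard _
      have h6 : orderOf (pi e') = 2 := orderOf_eq_prime (by rw [pow_two]; exact ctx22.sq _ (lifted.map e' heS))
        (ctx22.ne1 _ (lifted.map e' heS))
      rw [h6] at h5
      norm_num at h5
    · have h4 : ¬ Q.Com Q.x0 a := by
        rw [Q.com_def, hQ0, ha]
        exact fun h => h2 h.symm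
      obtain ⟨l, hl, hla⟩ := Q.not_com_x0_iff.1 h4
      refine ⟨a, ⟨⟨⟨l, (hmemK l).1 hl⟩, hla⟩, ?_⟩, ha⟩
      show (k : Fi23) • a = a
      rw [hk, Q.smul_eq_iff_comm, ha]
      exact hxe
  refine (Set.ncard_le_ncard hsub (finite_set _)).trans ((Set.ncard_insert_le _ _).trans ?_)
  have h1 := Set.ncard_image_le (f := Q.t) (s := A) (Set.toFinite _)
  omega

/-- the centralizer of an element of order 13 commuting with `z0` -/
theorem cent13_le_z0 {x : Fi23} (hx : orderOf x = 13) (hxz : x * z0 = z0 * x) :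
    Nat.card (centralizer ({x} : Set Fi23)) ≤ 650 := by
  have hfin := finite_fi23
  set C := centralizer ({x} : Set Fi23) with hC
  have h1 : (K.subgroupOf C).index ≤ 25 := by
    refine le_trans ?_ (fx13_le hx hxz)
    let f : C ⧸ (K.subgroupOf C) → Fx x := Quotient.lift
      (fun c : C => (⟨(c : Fi23) * z0 * (c : Fi23)⁻¹, fx_conj (mem_centralizer_singleton_iff.1 c.2).symm
        ⟨z0_mem_D, hxz⟩⟩ : Fx x)) (by
        intro a b hab
        have hab' : (a⁻¹ * b : C) ∈ K.subgroupOf C := QuotientGroup.leftRel_apply.1 hab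
        have h2 : ((a : Fi23)⁻¹ * (b : Fi23)) * z0 = z0 * ((a : Fi23)⁻¹ * (b : Fi23)) :=
          (mem_K_iff _).1 (mem_subgroupOf.1 hab')
        apply Subtype.ext
        show (a : Fi23) * z0 * (a : Fi23)⁻¹ = (b : Fi23) * z0 * (b : Fi23)⁻¹
        calc (a : Fi23) * z0 * (a : Fi23)⁻¹ = (a : Fi23) * (z0 * ((a : Fi23)⁻¹ * (b : Fi23))) * (b : Fi23)⁻¹ := by group
          _ = (a : Fi23) * ((a : Fi23)⁻¹ * (b : Fi23) * z0) * (b : Fi23)⁻¹ := by rw [h2]
          _ = _ := by group)
    have hf : Function.Injective f := by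
      intro a b
      induction a using Quotient.inductionOn with
      | h a =>
      induction b using Quotient.inductionOn with
      | h b =>
      intro hab
      have h2 : (a : Fi23) * z0 * (a : Fi23)⁻¹ = (b : Fi23) * z0 * (b : Fi23)⁻¹ := congrArg Subtype.val hab
      apply Quotient.sound
      show QuotientGroup.leftRel (K.subgroupOf C) a b
      rw [QuotientGroup.leftRel_apply, mem_subgroupOf, mem_K_iff]
      show (a : Fi23)⁻¹ * (b : Fi23) * z0 = z0 * ((a : Fi23)⁻¹ * (b : Fi23))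
      calc (a : Fi23)⁻¹ * (b : Fi23) * z0 = (a : Fi23)⁻¹ * ((b : Fi23) * z0 * (b : Fi23)⁻¹) * (b : Fi23) := by group
        _ = (a : Fi23)⁻¹ * ((a : Fi23) * z0 * (a : Fi23)⁻¹) * (b : Fi23) := by rw [h2]
        _ = _ := by group
    exact Nat.card_le_card_of_injective f hf
  have h2 : Nat.card (K.subgroupOf C) ≤ 26 := by
    have hxK : x ∈ K := (mem_K_iff x).2 hxz
    refine le_trans ?_ (cent_le (x := ⟨x, hxK⟩) (by rw [Subgroup.orderOf_mk, hx]))
    let f : (K.subgroupOf C) → centralizer ({(⟨x, hxK⟩ : K)} : Set K) := fun c =>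
      ⟨⟨((c : C) : Fi23), mem_subgroupOf.1 c.2⟩, by
        rw [mem_centralizer_singleton_iff]
        exact Subtype.ext (mem_centralizer_singleton_iff.1 (c : C).2)⟩
    refine Nat.card_le_card_of_injective f ?_
    intro a b hab
    apply Subtype.ext
    apply Subtype.ext
    exact congrArg (fun t : centralizer ({(⟨x, hxK⟩ : K)} : Set K) => ((t : K) : Fi23)) hab
  rw [← (K.subgroupOf C).card_mul_index]
  exact (Nat.mul_le_mul h2 h1)

theorem exists_conj13 {x : Fi23} (hx : orderOf x = 13) : ∃ g : Fi23, (g * x * g⁻¹) * z0 = z0 * (g * x * g⁻¹) := by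
  have hmod := fx_modEq (r := 13) (by norm_num) (x := x) (by rw [← hx, pow_orderOf_eq_one])
  have hne : (Fx x).Nonempty := by
    rw [← Set.ncard_pos (finite_set _)]
    unfold Nat.ModEq at hmod
    omega
  obtain ⟨d, hd⟩ := hne
  exact conj_z0 hd

/-- no element of order 7 commutes with an element of order 13 -/
theorem thirteen_seven {x y : Fi23} (hx : orderOf x = 13) (hy : orderOf y = 7) (hxy : x * y = y * x) : False := by
  have hfin := finite_fi23
  -- reduce to the case that `x` commutes with `z0`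
  have key : ∀ x y : Fi23, orderOf x = 13 → orderOf y = 7 → x * y = y * x → x * z0 = z0 * x → False := by
    intro x y hx hy hxy hxz
    have hle := fx13_le hx hxz
    have hmod := fx_modEq (r := 13) (by norm_num) (x := x) (by rw [← hx, pow_orderOf_eq_one])
    have hmod' := fx_modEq' (s := 7) (by norm_num) (x := x) (y := y) (by rw [← hy, pow_orderOf_eq_one]) hxy
    have hempty : {d | d ∈ Fx x ∧ y * d = d * y} = ∅ := by
      rw [Set.eq_empty_iff_forall_notMem]
      rintro d ⟨hd, hyd⟩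
      -- conjugate `d` to `z0`
      obtain ⟨c, hc⟩ := isConj_iff.1 (show IsConj z0 d from hd.1)
      have hz : ∀ w : Fi23, w * d = d * w → (c⁻¹ * w * c⁻¹⁻¹) * z0 = z0 * (c⁻¹ * w * c⁻¹⁻¹) := by
        intro w hw
        rw [← hc] at hw
        calc (c⁻¹ * w * c⁻¹⁻¹) * z0 = c⁻¹ * (w * (c * z0 * c⁻¹)) * c := by group
          _ = c⁻¹ * (c * z0 * c⁻¹ * w) * c := by rw [hw]
          _ = _ := by group
      have hxK : c⁻¹ * x * c⁻¹⁻¹ ∈ K := (mem_K_iff _).2 (hz x hd.2)
      have hyK : c⁻¹ * y * c⁻¹⁻¹ ∈ K := (mem_K_iff _).2 (hz y hyd)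
      have hox : orderOf (⟨_, hxK⟩ : K) = 13 := by
        rw [Subgroup.orderOf_mk, ← hx]; exact (MulAut.conj c⁻¹).orderOf_eq x
      have hoy : orderOf (⟨_, hyK⟩ : K) = 7 := by
        rw [Subgroup.orderOf_mk, ← hy]; exact (MulAut.conj c⁻¹).orderOf_eq y
      have hle2 := cent_le hox
      set Z := centralizer ({(⟨_, hxK⟩ : K)} : Set K) with hZ
      have hxZ : (⟨_, hxK⟩ : K) ∈ Z := mem_centralizer_singleton_iff.2 rfl
      have hyZ : (⟨_, hyK⟩ : K) ∈ Z := mem_centralizer_singleton_iff.2 (Subtype.ext (comm_conj hxy).symm)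
      have d1 : 13 ∣ Nat.card Z := by
        rw [← hox, ← Subgroup.orderOf_mk _ hxZ]; exact orderOf_dvd_natCard _
      have d2 : 7 ∣ Nat.card Z := by
        rw [← hoy, ← Subgroup.orderOf_mk _ hyZ]; exact orderOf_dvd_natCard _
      have d3 : 13 * 7 ∣ Nat.card Z := Nat.Coprime.mul_dvd_of_dvd_of_dvd (by norm_num) d1 d2
      have h5 := Nat.le_of_dvd Nat.card_pos d3
      omega
    rw [hempty, Set.ncard_empty] at hmod'
    unfold Nat.ModEq at hmod hmod'
    omega
  obtain ⟨g, hg⟩ := exists_conj13 hx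
  exact key (g * x * g⁻¹) (g * y * g⁻¹) (by rw [← hx]; exact (MulAut.conj g).orderOf_eq x)
    (by rw [← hy]; exact (MulAut.conj g).orderOf_eq y) (comm_conj hxy) hg

theorem cent13_le : ∃ x : Fi23, orderOf x = 13 ∧ Nat.card (centralizer ({x} : Set Fi23)) ≤ 650 := by
  have hfin := finite_fi23
  have f13 : Fact (Nat.Prime 13) := ⟨by norm_num⟩
  obtain ⟨x, hx⟩ := exists_prime_orderOf_dvd_card' (G := Fi23) 13 (by
    rw [LThreeFi23.card_G]; norm_num)
  obtain ⟨g, hg⟩ := exists_conj13 hx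
  have hx' : orderOf (g * x * g⁻¹) = 13 := by rw [← hx]; exact (MulAut.conj g).orderOf_eq x
  exact ⟨_, hx', cent13_le_z0 hx' hg⟩

end thirteen

section row

open Cfsg.Agent.LThreeFi23 Cfsg.Agent.H163.PG.FiTT
open Cfsg.Spor (Fi23)

theorem exists_ord {q : ℕ} (hq : q.Prime) (hd : q ∣ 4089470473293004800) : ∃ x : Fi23, orderOf x = q := by
  have : Fact q.Prime := ⟨hq⟩
  exact exists_prime_orderOf_dvd_card' (G := Fi23) q (by rw [card_G]; exact hd)

theorem nc_fi23_three {q : ℕ} (hq : q = 5 ∨ q = 7 ∨ q = 11 ∨ q = 13 ∨ q = 17 ∨ q = 23) : NC 3 q Fi23 := by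
  have n3 : ∀ q a : ℕ, q.Prime → 3 ≠ q → 4089470473293004800 % q ^ a = 0 → 13756055040 % q ^ a ≠ 0 → NC 3 q Fi23 := by
    intro q a hq h3 h1 h2
    refine nc_of_card (a := a) hq h3 (x := uu) ⟨1, by rw [order_uu, pow_one]⟩
      (by rw [card_G]; exact Nat.dvd_of_mod_eq_zero h1) ?_
    rw [card_C]
    exact fun h => h2 (Nat.mod_eq_zero_of_dvd h)
  rcases hq with rfl | rfl | rfl | rfl | rfl | rfl
  · exact n3 5 2 (by norm_num) (by norm_num) (by norm_num) (by norm_num)
  · exact fr37_fi23.nc (by norm_num) (by norm_num)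
  · exact n3 11 1 (by norm_num) (by norm_num) (by norm_num) (by norm_num)
  · obtain ⟨x, hx, hc⟩ := cent13_le
    refine (nc_of_card (q := 3) (a := 13) (by norm_num) (by norm_num) (x := x) ⟨1, by rw [hx, pow_one]⟩
      (by rw [card_G]; norm_num) ?_).symm
    intro hd
    have h1 := Nat.le_of_dvd Nat.card_pos hd
    omega
  · exact n3 17 1 (by norm_num) (by norm_num) (by norm_num) (by norm_num)
  · exact n3 23 1 (by norm_num) (by norm_num) (by norm_num) (by norm_num)

theorem nc_fi23_5_11 : NC 5 11 Fi23 := by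
  obtain ⟨x, hx⟩ := exists_ord (q := 11) (by norm_num) (by norm_num)
  exact (nc_of_elem (q := 5) (by norm_num) (by norm_num) (by rw [card_G]; norm_num) hx fun y hy hxy =>
    eleven hx (s := 5) (by norm_num) (by norm_num) (by norm_num) hy hxy).symm

theorem nc_fi23_7_13 : NC 7 13 Fi23 := by
  obtain ⟨x, hx⟩ := exists_ord (q := 13) (by norm_num) (by norm_num)
  exact (nc_of_elem (q := 7) (by norm_num) (by norm_num) (by rw [card_G]; norm_num) hx fun y hy hxy =>
    thirteen_seven hx hy hxy).symm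

theorem row_fi23 {G : Type*} [Group G] [Finite G] [IsSimpleGroup G] (h : Spor.IsoFi23 G) : Row G := by
  have hN := NotCT.Orders.fi23 h
  have hna := na_fi23 h
  have hna' := na17_fi23 h
  obtain ⟨e⟩ := h
  refine row_of (N := 4089470473293004800) (k := 18) hN [3, 5, 7, 11, 13, 17, 23] [3] [17, 23] 5 [(5, 11), (7, 13)]
    ?_ ?_ ?_ ?_ ?_ ?_ ?_ ?_
  · decide
  · decide
  · decide
  · exact ab_of_not_cube (by norm_num) (by rw [hN]; norm_num)
  · intro p hp
    obtain rfl := List.mem_singleton.1 hp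
    refine nc_all ?_
    intro q hq
    exact (nc_fi23_three (by simpa using hq)).congr e.symm
  · intro r hr
    have hr' : r = 17 ∨ r = 23 := by simpa using hr
    rcases hr' with rfl | rfl
    · exact solv_of_na (by norm_num) (by rw [hN]; norm_num) hna'
    · exact solv_of_na (by norm_num) (by rw [hN]; norm_num) hna
  · intro a ha
    have ha' : a = (5, 11) ∨ a = (7, 13) := by simpa using ha
    rcases ha' with rfl | rfl
    · exact nc_fi23_5_11.congr e.symm
    · exact nc_fi23_7_13.congr e.symm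
  · decide

end row

end Cfsg.Agent.H995.NH
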