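import Cfsg.Agent.H961.PrimeSection

/-!
# A prime dividing the order once: the index of the largest normal `r'`-subgroup (helper995)

If `r` divides `|H|` exactly once, and for all nonabelian simple groups of order dividing `|H|` and divisible by `r` the number
of Sylow `r`-subgroups is `r + 1`, then `H` has a normal subgroup `N` of order prime to `r` with `|H : N|` dividing
`r(r-1)(r+1)`.
-/

set_option autoImplicit false

namespace Cfsg.Agent.H995.CopEngine

open Subgroup
open scoped Pointwise

universe u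

section

variable {G : Type u} [Group G] [Finite G] {r : ℕ}

theorem card_sup_dvd (N A : Subgroup G) [N.Normal] : Nat.card (N ⊔ A : Subgroup G) ∣ Nat.card N * Nat.card A := by
  have h1 : N.relIndex (A ⊔ N) = N.relIndex A := Subgroup.relIndex_sup_right A N
  have h2 := Subgroup.relIndex_mul_relIndex ⊥ N (A ⊔ N) bot_le le_sup_right
  rw [Subgroup.relIndex_bot_left, Subgroup.relIndex_bot_left, h1] at h2
  rw [sup_comm, ← h2]
  exact Nat.mul_dvd_mul_left _ (Subgroup.relIndex_dvd_card _ _)

/-- the largest normal `r'`-subgroup -/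
theorem exists_core (G : Type u) [Group G] [Finite G] {r : ℕ} (hr : r.Prime) : ∃ N : Subgroup G, N.Normal ∧ ¬ r ∣ Nat.card N ∧
    ∀ A : Subgroup G, A.Normal → ¬ r ∣ Nat.card A → A ≤ N := by
  have hne : {N : Subgroup G | N.Normal ∧ ¬ r ∣ Nat.card N}.Nonempty :=
    ⟨⊥, inferInstance, by rw [Subgroup.card_bot]; exact fun h => hr.one_lt.ne' (Nat.dvd_one.1 h)⟩
  obtain ⟨N, ⟨hN, hrN⟩, hmax⟩ := Set.exists_max_image _ (fun N : Subgroup G => Nat.card N) (Set.toFinite _) hne
  refine ⟨N, hN, hrN, fun A hA hrA => ?_⟩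
  have h1 : ¬ r ∣ Nat.card (N ⊔ A : Subgroup G) := fun h =>
    (hr.dvd_mul.1 (h.trans (card_sup_dvd N A))).elim hrN hrA
  have h2 : Nat.card (N ⊔ A : Subgroup G) ≤ Nat.card N := hmax _ ⟨inferInstance, h1⟩
  have h3 : N = N ⊔ A := by
    apply Subgroup.eq_of_le_of_card_ge le_sup_left h2
  rw [h3]
  exact le_sup_right

theorem core_characteristic {N : Subgroup G} (hN : N.Normal) (hrN : ¬ r ∣ Nat.card N)
    (hmax : ∀ A : Subgroup G, A.Normal → ¬ r ∣ Nat.card A → A ≤ N) : N.Characteristic := by
  rw [Subgroup.characteristic_iff_map_le]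
  intro φ
  refine hmax _ (hN.map _ φ.surjective) ?_
  rwa [Subgroup.card_map_of_injective φ.injective]

/-- a normal `r'`-subgroup of a normal subgroup is trivial -/
theorem eq_bot_of_normal (hr : r.Prime) (hO : ∀ A : Subgroup G, A.Normal → ¬ r ∣ Nat.card A → A = ⊥) (S : Subgroup G)
    [S.Normal] (A : Subgroup S) (hA : A.Normal) (hrA : ¬ r ∣ Nat.card A) : A = ⊥ := by
  obtain ⟨B, hB, hrB, hmax⟩ := exists_core S hr
  have hchar := core_characteristic hB hrB hmax
  have hn : (B.map S.subtype).Normal := inferInstance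
  have h1 := hO _ hn (by rwa [Subgroup.card_map_of_injective S.subtype_injective])
  rw [Subgroup.map_eq_bot_iff_of_injective _ S.subtype_injective] at h1
  rw [← le_bot_iff, ← h1]
  exact hmax A hA hrA

theorem sylow_card (hr : r.Prime) (hd : r ∣ Nat.card G) (h2 : ¬ r ^ 2 ∣ Nat.card G) (P : Sylow r G) :
    Nat.card (P : Subgroup G) = r := by
  have : Fact r.Prime := ⟨hr⟩
  rw [Sylow.card_eq_multiplicity]
  have h1 : (Nat.card G).factorization r = 1 := by
    apply le_antisymm
    · by_contra h5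
      rw [not_le] at h5
      exact h2 ((hr.pow_dvd_iff_le_factorization Nat.card_pos.ne').2 h5)
    · exact (hr.dvd_iff_one_le_factorization Nat.card_pos.ne').1 hd
  rw [h1, pow_one]

/-- the number of Sylow subgroups divides the order of a normal subgroup containing one -/
theorem card_sylow_dvd (hr : r.Prime) (P : Sylow r G) (S : Subgroup G) [S.Normal] (hPS : (P : Subgroup G) ≤ S) :
    Nat.card (Sylow r G) ∣ Nat.card S := by
  have : Fact r.Prime := ⟨hr⟩
  rw [Sylow.card_eq_index_normalizer P]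
  have hsup : normalizer ((P : Subgroup G) : Set G) ⊔ S = ⊤ := Sylow.normalizer_sup_eq_top' (N := S) P hPS
  have h1 : S.index = S.relIndex (normalizer ((P : Subgroup G) : Set G)) := by
    rw [← Subgroup.relIndex_sup_right, hsup, Subgroup.relIndex_top_right]
  obtain ⟨t, ht⟩ := Subgroup.relIndex_dvd_card S (normalizer ((P : Subgroup G) : Set G))
  rw [← h1] at ht
  have h2 := S.card_mul_index
  have h3 := (normalizer ((P : Subgroup G) : Set G)).card_mul_index
  rw [ht, ← h2, mul_assoc, mul_comm (Nat.card S)] at h3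
  have h4 := Nat.eq_of_mul_eq_mul_left (Nat.pos_of_ne_zero S.index_ne_zero_of_finite) h3
  exact ⟨t, by rw [mul_comm]; exact h4.symm⟩

/-- an `r'`-quotient kills the elements of order `r` -/
theorem mem_of_pow (hr : r.Prime) (A : Subgroup G) [A.Normal] (h : ¬ r ∣ A.index) {x : G} (hx : x ^ r = 1) : x ∈ A := by
  rw [← QuotientGroup.eq_one_iff, ← orderOf_eq_one_iff]
  have h1 : orderOf (x : G ⧸ A) ∣ r := orderOf_dvd_of_pow_eq_one (by
    rw [← QuotientGroup.mk_pow, hx, QuotientGroup.mk_one])
  have h2 : orderOf (x : G ⧸ A) ∣ A.index := by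
    rw [Subgroup.index_eq_card]
    exact orderOf_dvd_natCard _
  rcases (Nat.dvd_prime hr).1 h1 with h3 | h3
  · exact h3
  · rw [h3] at h2
    exact absurd h2 h

/-- the normal closure of a Sylow subgroup is simple -/
theorem simple_closure (hr : r.Prime) (hd : r ∣ Nat.card G) (h2 : ¬ r ^ 2 ∣ Nat.card G)
    (hO : ∀ A : Subgroup G, A.Normal → ¬ r ∣ Nat.card A → A = ⊥) (P : Sylow r G) :
    IsSimpleGroup (Subgroup.normalClosure ((P : Subgroup G) : Set G)) := by
  have : Fact r.Prime := ⟨hr⟩
  set S := Subgroup.normalClosure ((P : Subgroup G) : Set G) with hS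
  have hPS : (P : Subgroup G) ≤ S := Subgroup.le_normalClosure
  have hP := sylow_card hr hd h2 P
  have hrS : r ∣ Nat.card S := hP ▸ Subgroup.card_dvd_of_le hPS
  have hnt : Nontrivial S := by
    rw [Subgroup.nontrivial_iff_ne_bot]
    intro h
    rw [h, Subgroup.card_bot] at hrS
    exact hr.one_lt.ne' (Nat.dvd_one.1 hrS)
  refine { eq_bot_or_eq_top_of_normal := fun A hA => ?_ }
  by_cases hrA : r ∣ Nat.card A
  · right
    have hidx : ¬ r ∣ A.index := by
      intro h
      apply h2
      refine dvd_trans ?_ (Subgroup.card_subgroup_dvd_card S)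
      rw [← A.card_mul_index, pow_two]
      exact Nat.mul_dvd_mul hrA h
    have h3 : S ≤ A.map S.subtype := by
      have h4 : S = Subgroup.closure (Group.conjugatesOfSet ((P : Subgroup G) : Set G)) := rfl
      conv_lhs => rw [h4]
      rw [Subgroup.closure_le]
      intro x hx
      have hxS : x ∈ S := Subgroup.conjugatesOfSet_subset_normalClosure hx
      obtain ⟨y, hy, hxy⟩ := Group.mem_conjugatesOfSet_iff.1 hx
      have hy1 : y ^ r = 1 := by
        have h5 : (⟨y, hy⟩ : (P : Subgroup G)) ^ Nat.card (P : Subgroup G) = 1 := pow_card_eq_one'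
        rw [hP] at h5
        exact congrArg Subtype.val h5
      have hx1 : x ^ r = 1 := by
        obtain ⟨c, rfl⟩ := isConj_iff.1 hxy
        rw [conj_pow, hy1, mul_one, mul_inv_cancel]
      exact ⟨⟨x, hxS⟩, mem_of_pow hr A hidx (Subtype.ext hx1), rfl⟩
    rw [eq_top_iff]
    rintro ⟨x, hx⟩ -
    obtain ⟨y, hy, e⟩ := h3 hx
    have : y = ⟨x, hx⟩ := Subtype.ext e
    rwa [← this]
  · exact Or.inl (eq_bot_of_normal hr hO S A hA hrA)

/-- `|G : C_G(P)|` for a normal Sylow subgroup -/
theorem relIndex_centralizer_dvd (hr : r.Prime) (P : Subgroup G) (hP : Nat.card P = r) :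
    (centralizer (P : Set G)).relIndex (normalizer (P : Set G)) ∣ r - 1 := by
  have : Fact r.Prime := ⟨hr⟩
  have hc : IsCyclic P := isCyclic_of_prime_card hP
  have h1 := Subgroup.normalizerMonoidHom_ker P
  have h2 : (P.normalizerMonoidHom).ker.index ∣ Nat.card (MulAut P) := by
    rw [Subgroup.index_ker]
    exact Subgroup.card_subgroup_dvd_card _
  rw [h1, IsCyclic.card_mulAut, hP, Nat.totient_prime hr] at h2
  exact h2

theorem mem_normal_of_coprime (hr : r.Prime) (hd : r ∣ Nat.card G) (h2 : ¬ r ^ 2 ∣ Nat.card G)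
    (hO : ∀ A : Subgroup G, A.Normal → ¬ r ∣ Nat.card A → A = ⊥) (P : Sylow r G) (hP : (P : Subgroup G).Normal) :
    centralizer ((P : Subgroup G) : Set G) = (P : Subgroup G) := by
  have : Fact r.Prime := ⟨hr⟩
  set C := centralizer ((P : Subgroup G) : Set G) with hC
  have hcard := sylow_card hr hd h2 P
  have hcyc : IsCyclic (P : Subgroup G) := isCyclic_of_prime_card hcard
  have hPC : (P : Subgroup G) ≤ C := by
    intro x hx
    rw [hC, Subgroup.mem_centralizer_iff]
    intro y hy
    have h3 : (⟨y, hy⟩ : (P : Subgroup G)) * ⟨x, hx⟩ = ⟨x, hx⟩ * ⟨y, hy⟩ := hcyc.commGroup.mul_comm _ _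
    exact congrArg Subtype.val h3
  have hCn : C.Normal := Subgroup.normal_centralizer
  let R : Subgroup C := (P : Subgroup G).subgroupOf C
  have hRcard : Nat.card R = r := by
    rw [Nat.card_congr (Subgroup.subgroupOfEquivOfLe hPC).toEquiv, hcard]
  have hRn : R.Normal := inferInstance
  have hRidx : ¬ r ∣ R.index := by
    intro h
    apply h2
    refine dvd_trans ?_ (Subgroup.card_subgroup_dvd_card C)
    rw [← R.card_mul_index, pow_two, hRcard]
    exact Nat.mul_dvd_mul_left _ h
  have hcop : (Nat.card R).Coprime R.index := by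
    rw [hRcard]
    exact (Nat.Prime.coprime_iff_not_dvd hr).2 hRidx
  obtain ⟨K, hK⟩ := Subgroup.exists_right_complement'_of_coprime hcop
  have hKcard : ¬ r ∣ Nat.card K := by rw [← hK.symm.index_eq_card]; exact hRidx
  have hRcen : ∀ x ∈ R, ∀ y : C, x * y = y * x := by
    intro x hx y
    exact Subtype.ext ((Subgroup.mem_centralizer_iff.1 y.2) x (Subgroup.mem_subgroupOf.1 hx))
  have hKn : K.Normal := by
    refine ⟨fun k hk g => ?_⟩
    have h3 : (g : C) ∈ ((R : Set C) * (K : Set C)) := by
      rw [hK.mul_eq]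
      trivial
    obtain ⟨x, hx, y, hy, rfl⟩ := Set.mem_mul.1 h3
    have h4 : x * y * k * (x * y)⁻¹ = y * k * y⁻¹ := by
      have h5 := hRcen x hx (y * k * y⁻¹)
      calc x * y * k * (x * y)⁻¹ = (x * (y * k * y⁻¹)) * x⁻¹ := by group
        _ = y * k * y⁻¹ := by rw [h5]; group
    rw [h4]
    exact K.mul_mem (K.mul_mem hy hk) (K.inv_mem hy)
  have h5 := eq_bot_of_normal hr hO C K hKn hKcard
  rw [h5] at hK
  have h6 : R = ⊤ := Subgroup.isComplement'_bot_right.1 hK
  refine le_antisymm ?_ hPC
  rw [Subgroup.subgroupOf_eq_top] at h6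
  exact h6

end

section

variable {G : Type u} [Group G] [Finite G] {r : ℕ}

/-- `P` fixes no other Sylow subgroup -/
theorem eq_of_smul_eq (hr : r.Prime) (hd : r ∣ Nat.card G) (h2 : ¬ r ^ 2 ∣ Nat.card G) {P Q : Sylow r G} {w : G}
    (hw : w ∈ P) (hw1 : w ≠ 1) (h : w • Q = Q) : P = Q := by
  have : Fact r.Prime := ⟨hr⟩
  have h1 := Sylow.smul_eq_iff_mem_normalizer.1 h
  have h3 := IsPGroup.inf_normalizer_sylow P.isPGroup' Q
  have h4 : w ∈ (P : Subgroup G) ⊓ (Q : Subgroup G) := by
    rw [← h3]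
    exact ⟨hw, h1⟩
  have hPc := sylow_card hr hd h2 P
  have hQc := sylow_card hr hd h2 Q
  have key : ∀ T : Sylow r G, w ∈ T → zpowers w = (T : Subgroup G) := by
    intro T hT
    have hTc := sylow_card hr hd h2 T
    apply Subgroup.eq_of_le_of_card_ge (Subgroup.zpowers_le.2 hT)
    rw [hTc]
    have h5 : Nat.card (zpowers w) ∣ r := hTc ▸ Subgroup.card_dvd_of_le (Subgroup.zpowers_le.2 hT)
    rcases (Nat.dvd_prime hr).1 h5 with h6 | h6
    · rw [Nat.card_zpowers, orderOf_eq_one_iff] at h6
      exact absurd h6 hw1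
    · exact h6.ge
  exact Sylow.ext ((key P h4.1).symm.trans (key Q h4.2))

/-- `P` is self-centralizing if there are `r + 1` Sylow subgroups -/
theorem centralizer_eq (hr : r.Prime) (hd : r ∣ Nat.card G) (h2 : ¬ r ^ 2 ∣ Nat.card G)
    (hO : ∀ A : Subgroup G, A.Normal → ¬ r ∣ Nat.card A → A = ⊥) (P : Sylow r G) (hn : Nat.card (Sylow r G) = r + 1) :
    centralizer ((P : Subgroup G) : Set G) = (P : Subgroup G) := by
  have : Fact r.Prime := ⟨hr⟩
  have hcard := sylow_card hr hd h2 P
  have hcyc : IsCyclic (P : Subgroup G) := isCyclic_of_prime_card hcard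
  obtain ⟨⟨w, hwP⟩, hw⟩ := hcyc.exists_generator
  have hzw : zpowers w = (P : Subgroup G) := by
    apply le_antisymm (Subgroup.zpowers_le.2 hwP)
    intro x hx
    obtain ⟨k, hk⟩ := Subgroup.mem_zpowers_iff.1 (hw ⟨x, hx⟩)
    exact ⟨k, congrArg Subtype.val hk⟩
  have how : orderOf w = r := by rw [← Nat.card_zpowers, hzw, hcard]
  -- the kernel of the action
  have hker : ∀ β : G, (∀ Q : Sylow r G, β • Q = Q) → β = 1 := by
    intro β hβ
    have hK : (MulAction.toPermHom G (Sylow r G)).ker = ⊥ := by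
      refine hO _ inferInstance fun hrK => ?_
      obtain ⟨⟨v, hv⟩, hvo⟩ := exists_prime_orderOf_dvd_card' r hrK
      have hv1 : v ≠ 1 := by
        rintro rfl
        rw [Subgroup.orderOf_mk, orderOf_one] at hvo
        exact hr.one_lt.ne hvo
      have hvr : IsPGroup r (zpowers v) := by
        rw [IsPGroup.iff_card]
        exact ⟨1, by rw [Nat.card_zpowers, pow_one, ← hvo, Subgroup.orderOf_mk]⟩
      obtain ⟨T, hT⟩ := hvr.exists_le_sylow
      have hvT : v ∈ T := hT (mem_zpowers v)
      have hall : ∀ Q : Sylow r G, T = Q := by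
        intro Q
        refine eq_of_smul_eq hr hd h2 hvT hv1 ?_
        have h3 := congrArg (fun σ : Equiv.Perm (Sylow r G) => σ Q) (MonoidHom.mem_ker.1 hv)
        exact h3
      have h4 : Nat.card (Sylow r G) ≤ 1 := by
        have : Subsingleton (Sylow r G) := ⟨fun a b => (hall a).symm.trans (hall b)⟩
        exact Finite.card_le_one_iff_subsingleton.2 this
      have := hr.one_lt
      omega
    have h3 : β ∈ (MulAction.toPermHom G (Sylow r G)).ker := by
      rw [MonoidHom.mem_ker]
      ext1 Q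
      exact hβ Q
    rw [hK, Subgroup.mem_bot] at h3
    exact h3
  -- a second Sylow subgroup
  obtain ⟨Q, hQ⟩ : ∃ Q : Sylow r G, Q ≠ P := by
    by_contra hcon
    push Not at hcon
    have h4 : Nat.card (Sylow r G) ≤ 1 := by
      have : Subsingleton (Sylow r G) := ⟨fun a b => (hcon a).trans (hcon b).symm⟩
      exact Finite.card_le_one_iff_subsingleton.2 this
    have := hr.one_lt
    omega
  -- its images under `w`
  have hwk : ∀ (k : ℕ) (T : Sylow r G), 0 < k → k < r → w ^ k • T = T → P = T := by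
    intro k T hk1 hk2 h
    refine eq_of_smul_eq hr hd h2 (w := w ^ k) (pow_mem hwP k) ?_ h
    intro h1
    have h3 := orderOf_dvd_of_pow_eq_one h1
    rw [how] at h3
    exact absurd (Nat.le_of_dvd hk1 h3) (by omega)
  have hinj : Function.Injective (fun o : Option (Fin r) => o.elim P fun i => w ^ (i : ℕ) • Q) := by
    have hQP : ∀ k : ℕ, w ^ k • Q ≠ P := by
      intro k h
      apply hQ
      have h3 : w ^ k • P = P := Sylow.smul_eq_iff_mem_normalizer.2 (Subgroup.le_normalizer (pow_mem hwP k))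
      rw [← h3] at h
      exact smul_left_cancel _ h
    have hlt : ∀ i j : ℕ, i < j → j < r → w ^ i • Q = w ^ j • Q → False := by
      intro i j hij hj h
      obtain ⟨d, rfl⟩ : ∃ d, j = i + d := ⟨j - i, by omega⟩
      rw [pow_add, mul_smul] at h
      have h3 := smul_left_cancel _ h
      exact hQ (hwk d Q (by omega) (by omega) h3.symm).symm
    rintro (_ | i) (_ | j) h
    · rfl
    · exact absurd h.symm (hQP j)
    · exact absurd h (hQP i)
    · rcases lt_trichotomy (i : ℕ) j with h3 | h3 | h3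
      · exact (hlt i j h3 j.2 h).elim
      · exact congrArg some (Fin.ext h3)
      · exact (hlt j i h3 i.2 h.symm).elim
  have hsurj : Function.Surjective (fun o : Option (Fin r) => o.elim P fun i => w ^ (i : ℕ) • Q) := by
    have : Fintype (Sylow r G) := Fintype.ofFinite _
    refine ((Fintype.bijective_iff_injective_and_card _).2 ⟨hinj, ?_⟩).2
    rw [Fintype.card_option, Fintype.card_fin, ← hn, Nat.card_eq_fintype_card]
  apply le_antisymm
  · intro a ha
    have hac : ∀ x ∈ (P : Subgroup G), x * a = a * x := fun x hx => Subgroup.mem_centralizer_iff.1 ha x hx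
    have haP : a • P = P := Sylow.smul_eq_iff_mem_normalizer.2 (Subgroup.centralizer_le_normalizer _ ha)
    have haQ : a • Q ≠ P := by
      intro h
      rw [← haP] at h
      exact hQ (smul_left_cancel _ h)
    obtain ⟨o, ho⟩ := hsurj (a • Q)
    rcases o with _ | i
    · exact absurd ho.symm haQ
    · change w ^ (i : ℕ) • Q = a • Q at ho
      have h3 : (w ^ (i : ℕ))⁻¹ * a = 1 := by
        apply hker
        have hbQ : ((w ^ (i : ℕ))⁻¹ * a) • Q = Q := by
          rw [mul_smul, ← ho, inv_smul_smul]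
        intro T
        obtain ⟨o, rfl⟩ := hsurj T
        rcases o with _ | j
        · change ((w ^ (i : ℕ))⁻¹ * a) • P = P
          rw [mul_smul, haP]
          exact Sylow.smul_eq_iff_mem_normalizer.2 (Subgroup.le_normalizer (inv_mem (pow_mem hwP _)))
        · change ((w ^ (i : ℕ))⁻¹ * a) • (w ^ (j : ℕ) • Q) = w ^ (j : ℕ) • Q
          have h5 : (w ^ (i : ℕ))⁻¹ * a * w ^ (j : ℕ) = w ^ (j : ℕ) * ((w ^ (i : ℕ))⁻¹ * a) := by
            rw [mul_assoc, ← hac _ (pow_mem hwP _), ← mul_assoc, ← mul_assoc]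
            congr 1
            exact ((Commute.refl w).pow_pow _ _).inv_left.eq
          rw [← mul_smul, h5, mul_smul, hbQ]
      have h4 : a = w ^ (i : ℕ) := (inv_mul_eq_one.1 h3).symm
      rw [h4]
      exact pow_mem hwP _
  · intro x hx
    rw [Subgroup.mem_centralizer_iff]
    intro y hy
    have h3 : (⟨y, hy⟩ : (P : Subgroup G)) * ⟨x, hx⟩ = ⟨x, hx⟩ * ⟨y, hy⟩ := hcyc.commGroup.mul_comm _ _
    exact congrArg Subtype.val h3

/-- **The order of a group with `O_{r'} = 1`.** -/
theorem card_dvd (hr : r.Prime) (hd : r ∣ Nat.card G) (h2 : ¬ r ^ 2 ∣ Nat.card G)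
    (hO : ∀ A : Subgroup G, A.Normal → ¬ r ∣ Nat.card A → A = ⊥)
    (hS : ∀ S : Subgroup G, IsSimpleGroup S → (¬ ∀ a b : S, a * b = b * a) → r ∣ Nat.card S →
      ∀ d, d ∣ Nat.card S → d % r = 1 → d = 1 ∨ d = r + 1) : Nat.card G ∣ r * (r - 1) * (r + 1) := by
  have : Fact r.Prime := ⟨hr⟩
  obtain ⟨P⟩ : Nonempty (Sylow r G) := inferInstance
  have hcard := sylow_card hr hd h2 P
  set S := Subgroup.normalClosure ((P : Subgroup G) : Set G) with hSdef
  have hPS : (P : Subgroup G) ≤ S := Subgroup.le_normalClosure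
  have hrS : r ∣ Nat.card S := hcard ▸ Subgroup.card_dvd_of_le hPS
  have hsimple : IsSimpleGroup S := simple_closure hr hd h2 hO P
  have hn1 : Nat.card (Sylow r G) % r = 1 := by
    have h3 := card_sylow_modEq_one r G
    have h4 : Nat.card (Sylow r G) % r = 1 % r := h3
    rwa [Nat.mod_eq_of_lt hr.one_lt] at h4
  have hidx : Nat.card (Sylow r G) = (normalizer ((P : Subgroup G) : Set G)).index :=
    Sylow.card_eq_index_normalizer P
  have hn : Nat.card (Sylow r G) = 1 ∨ Nat.card (Sylow r G) = r + 1 := by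
    by_cases hab : ∀ a b : S, a * b = b * a
    · left
      have hc : IsMulCommutative S := ⟨⟨hab⟩⟩
      let _ : CommGroup S := { (inferInstance : Group S) with mul_comm := hab }
      have hp : (Nat.card S).Prime := IsSimpleGroup.prime_card
      have h3 : Nat.card S = r := ((Nat.prime_dvd_prime_iff_eq hr hp).1 hrS).symm
      have h4 : (P : Subgroup G) = S := Subgroup.eq_of_le_of_card_ge hPS (by rw [h3, hcard])
      have h5 : (P : Subgroup G).Normal := by rw [h4]; infer_instance
      rw [hidx, Subgroup.normalizer_eq_top_iff.2 h5, Subgroup.index_top]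
    · exact hS S hsimple hab hrS _ (card_sylow_dvd hr P S hPS) hn1
  have h4 := (normalizer ((P : Subgroup G) : Set G)).card_mul_index
  have hcent : centralizer ((P : Subgroup G) : Set G) = (P : Subgroup G) := by
    rcases hn with h | h
    · have h5 : (P : Subgroup G).Normal := by
        rw [h] at hidx
        have h6 := Subgroup.index_eq_one.1 hidx.symm
        exact Subgroup.normalizer_eq_top_iff.1 h6
      exact mem_normal_of_coprime hr hd h2 hO P h5
    · exact centralizer_eq hr hd h2 hO P h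
  have h6 := relIndex_centralizer_dvd hr (P : Subgroup G) hcard
  have h7 : Nat.card (normalizer ((P : Subgroup G) : Set G)) ∣ r * (r - 1) := by
    have h8 := Subgroup.relIndex_mul_relIndex ⊥ (centralizer ((P : Subgroup G) : Set G))
      (normalizer ((P : Subgroup G) : Set G)) bot_le (Subgroup.centralizer_le_normalizer _)
    rw [Subgroup.relIndex_bot_left, Subgroup.relIndex_bot_left] at h8
    rw [← h8, hcent, hcard]
    rw [hcent] at h6
    exact Nat.mul_dvd_mul_left _ h6
  rw [← h4, ← hidx]
  rcases hn with h | h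
  · rw [h, mul_one]
    exact Dvd.dvd.mul_right h7 _
  · rw [h]
    exact Nat.mul_dvd_mul_right h7 _

/-- **The engine**: a prime dividing the order once. -/
theorem main (hr : r.Prime) (hd : r ∣ Nat.card G) (h2 : ¬ r ^ 2 ∣ Nat.card G)
    (hS : ∀ (S : Type u) [Group S] [Finite S], IsSimpleGroup S → (¬ ∀ a b : S, a * b = b * a) → Nat.card S ∣ Nat.card G →
      r ∣ Nat.card S → ∀ d, d ∣ Nat.card S → d % r = 1 → d = 1 ∨ d = r + 1) :
    ∃ N : Subgroup G, N.Normal ∧ ¬ r ∣ Nat.card N ∧ N.index ∣ r * (r - 1) * (r + 1) := by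
  obtain ⟨N, hN, hrN, hmax⟩ := exists_core G hr
  refine ⟨N, hN, hrN, ?_⟩
  rw [Subgroup.index_eq_card]
  have hc := Subgroup.card_eq_card_quotient_mul_card_subgroup N
  have hqd : Nat.card (G ⧸ N) ∣ Nat.card G := Dvd.intro _ hc.symm
  refine card_dvd hr ?_ (fun h => h2 (h.trans hqd)) ?_ ?_
  · rw [hc] at hd
    exact (hr.dvd_mul.1 hd).resolve_right hrN
  · intro A hA hrA
    have h3 : (A.comap (QuotientGroup.mk' N)).Normal := inferInstance
    have h4 : Nat.card (A.comap (QuotientGroup.mk' N)) = Nat.card A * Nat.card N := by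
      have h5 := (A.comap (QuotientGroup.mk' N)).card_mul_index
      rw [Subgroup.index_comap_of_surjective _ (QuotientGroup.mk'_surjective N), hc, ← A.card_mul_index, mul_right_comm] at h5
      exact Nat.eq_of_mul_eq_mul_right (Nat.pos_of_ne_zero A.index_ne_zero_of_finite) h5
    have h5 := hmax _ h3 (by
      rw [h4]
      intro h
      exact (hr.dvd_mul.1 h).elim hrA hrN)
    rw [eq_bot_iff]
    intro x hx
    obtain ⟨g, rfl⟩ := QuotientGroup.mk'_surjective N x
    have h6 : g ∈ A.comap (QuotientGroup.mk' N) := hx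
    exact (QuotientGroup.eq_one_iff g).2 (h5 h6)
  · intro S hs hab hrS
    exact hS S hs hab ((Subgroup.card_subgroup_dvd_card S).trans hqd) hrS

end

end Cfsg.Agent.H995.CopEngine
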