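import Cfsg.Agent.H813.CoSevenMain
import Cfsg.Agent.H265.NH.CoOne

/-!
# Sylow 5- and 7-subgroups of `Co1` whose centralizers are 5- and 7-groups (helper995)
-/

set_option autoImplicit false

namespace Cfsg.Agent.H995.PBCoSyl

open Subgroup Cfsg

/-- An element commuting with the translation by one. -/
theorem pow_zmod {n : ℕ} [NeZero n] {a : Equiv.Perm (ZMod n)} (h1 : ∀ i, a (i + 1) = a i + 1) : a ^ n = 1 := by
  have h2 : ∀ m : ℕ, a (m : ZMod n) = (m : ZMod n) + a 0 := by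
    intro m
    induction m with
    | zero => simp
    | succ m ih =>
      rw [Nat.cast_succ, h1, ih]
      ring
  have h3 : ∀ i : ZMod n, a i = i + a 0 := by
    intro i
    have := h2 i.val
    rwa [ZMod.natCast_zmod_val] at this
  have h4 : ∀ (m : ℕ) (i : ZMod n), (a ^ m) i = i + (m : ZMod n) * a 0 := by
    intro m
    induction m with
    | zero => intro i; simp
    | succ m ih =>
      intro i
      rw [pow_succ', Equiv.Perm.mul_apply, h3, ih, Nat.cast_succ]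
      ring
  apply Equiv.ext
  intro i
  rw [h4, ZMod.natCast_self, zero_mul, add_zero]
  rfl

/-- An element commuting with the cycle of all points. -/
theorem pow_of_comm {n : ℕ} {a : Equiv.Perm (Fin (n + 1))}
    (h : a * finRotate (n + 1) = finRotate (n + 1) * a) : a ^ (n + 1) = 1 := by
  have h1 : ∀ i : Fin (n + 1), a (i + 1) = a i + 1 := by
    intro i
    have h2 := congrArg (fun s : Equiv.Perm (Fin (n + 1)) => s i) h
    simp only [Equiv.Perm.mul_apply, finRotate_apply] at h2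
    exact h2
  exact pow_zmod (n := n + 1) (a := a) h1

theorem exists_sylow {G : Type*} [Group G] [Finite G] {q : ℕ} [Fact q.Prime] {P : Subgroup G} (hP : IsPGroup q ↥P)
    (hC : ∀ g ∈ centralizer (P : Set G), ∃ n, g ^ q ^ n = 1) :
    ∃ Q : Sylow q G, IsPGroup q ↥(centralizer ((Q : Subgroup G) : Set G)) := by
  obtain ⟨Q, hQ⟩ := hP.exists_le_sylow
  refine ⟨Q, fun g => ?_⟩
  obtain ⟨n, hn⟩ := hC g (centralizer_le (SetLike.coe_subset_coe.2 hQ) g.2)
  exact ⟨n, Subtype.ext (by simpa using hn)⟩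

/-- the cycle in the alternating group -/
def cyc (n : ℕ) (h : Even n) : alternatingGroup (Fin (n + 1)) :=
  ⟨finRotate (n + 1), by rw [Equiv.Perm.mem_alternatingGroup, sign_finRotate, Nat.add_sub_cancel, h.neg_one_pow]⟩

theorem comm_cyc {n : ℕ} (h : Even n) {a : alternatingGroup (Fin (n + 1))} (hc : a * cyc n h = cyc n h * a) :
    a ^ (n + 1) = 1 := by
  apply Subtype.ext
  rw [SubmonoidClass.coe_pow]
  exact pow_of_comm (congrArg Subtype.val hc)

theorem zpow7 : ∀ z : Multiplicative (ZMod 7), z ^ 7 = 1 := by decide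

theorem seven : ∃ Q : Sylow 7 Spor.Co1, IsPGroup 7 ↥(centralizer ((Q : Subgroup Spor.Co1) : Set Spor.Co1)) := by
  have h7 : Fact (Nat.Prime 7) := ⟨by norm_num⟩
  obtain ⟨V, hV, ⟨e⟩⟩ := H813.CoSevenMain.cent_seven
  have h6 : Even 6 := by decide
  have hV1 : Nat.card ↥V = 7 ^ 1 := by rw [hV]; norm_num
  obtain ⟨y, hy⟩ : ∃ y : ↥(centralizer (V : Set Spor.Co1)), e y = (1, cyc 6 h6) := e.surjective _
  have hy7 : (y : Spor.Co1) ^ 7 = 1 := by
    have h1 : y ^ 7 = 1 := by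
      apply e.injective
      rw [map_pow, hy, Prod.pow_mk, comm_cyc h6 rfl, one_pow, map_one]
      rfl
    have := congrArg Subtype.val h1
    simpa using this
  have hZ : IsPGroup 7 ↥(zpowers (y : Spor.Co1)) := by
    rintro ⟨g, hg⟩
    obtain ⟨k, rfl⟩ := mem_zpowers_iff.1 hg
    refine ⟨1, Subtype.ext ?_⟩
    show ((y : Spor.Co1) ^ k) ^ (7 ^ 1) = 1
    rw [pow_one, ← zpow_natCast, ← zpow_mul, mul_comm, zpow_mul, zpow_natCast, hy7, one_zpow]
  have hP : IsPGroup 7 ↥(zpowers (y : Spor.Co1) ⊔ V) := by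
    refine IsPGroup.to_sup_of_normal_right' hZ (IsPGroup.of_card hV1) ?_
    rw [zpowers_le]
    exact centralizer_le_normalizer _ y.2
  refine exists_sylow hP fun g hg => ⟨1, ?_⟩
  have hgV : g ∈ centralizer (V : Set Spor.Co1) := centralizer_le (SetLike.coe_subset_coe.2 le_sup_right) hg
  have hgy : (y : Spor.Co1) * g = g * y := by
    rw [mem_centralizer_iff] at hg
    exact hg y (SetLike.le_def.1 le_sup_left (mem_zpowers _))
  let g' : ↥(centralizer (V : Set Spor.Co1)) := ⟨g, hgV⟩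
  have h1 : y * g' = g' * y := Subtype.ext hgy
  have h2 := congrArg e h1
  rw [map_mul, map_mul, hy] at h2
  have h3 : (e g').2 ^ 7 = 1 := comm_cyc h6 (congrArg Prod.snd h2).symm
  have h4 : (e g').1 ^ 7 = 1 := by
    exact zpow7 _
  have h5 : g' ^ 7 = 1 := by
    apply e.injective
    rw [map_pow, map_one]
    exact Prod.ext h4 h3
  rw [pow_one]
  have := congrArg Subtype.val h5
  simpa using this

section Abs

variable {G : Type*} [Group G] {x w : G} {A : Subgroup G}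

theorem five_abs [Finite G] (hx : orderOf x = 5) (hA : IsSimpleGroup ↥A) (h60 : Nat.card ↥A = 60)
    (hAx : ∀ a ∈ A, x * a = a * x) (hwx : w * x = x * w) (hw : w * w = 1)
    (hc : ∀ a ∈ A, ∀ b ∈ A, a * (w * b * w⁻¹) = (w * b * w⁻¹) * a)
    (hC : Nat.card ↥(centralizer ({x} : Set G)) = 36000) {r : G} (hrA : r ∈ A) (hr : r ≠ 1) (hr5 : r ^ 5 = 1)
    (hrc : ∀ a ∈ A, a * r = r * a → a ^ 5 = 1) :
    ∃ Q : Sylow 5 G, IsPGroup 5 ↥(centralizer ((Q : Subgroup G) : Set G)) := by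
  have h5 : Fact (Nat.Prime 5) := ⟨by norm_num⟩
  have hwi : w⁻¹ = w := inv_eq_of_mul_eq_one_left hw
  have hcen : ∀ a ∈ A, (∀ c ∈ A, a * c = c * a) → a = 1 := fun a ha h => MFiveHN.KStr.center_trivial hA h60 ha h
  have hww : ∀ a : G, w * (w * a * w⁻¹) * w⁻¹ = a := by
    intro a
    rw [hwi, ← mul_assoc, ← mul_assoc, hw, one_mul, mul_assoc, hw, mul_one]
  have hAw : ∀ a ∈ A, Commute x (w * a * w⁻¹) := by
    intro a ha
    have h1 : Commute x w := hwx.symm
    have h2 : Commute x a := hAx a ha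
    exact (h1.mul_right h2).mul_right h1.inv_right
  have hz : ∀ z ∈ zpowers x, ∀ a ∈ A, Commute z a := by
    rintro _ ⟨k, rfl⟩ a ha
    exact Commute.zpow_left (hAx a ha) k
  have hzw : ∀ z ∈ zpowers x, ∀ a ∈ A, Commute z (w * a * w⁻¹) := by
    rintro _ ⟨k, rfl⟩ a ha
    exact Commute.zpow_left (hAw a ha) k
  let φ1 : ↥(zpowers x) × ↥A →* G := MonoidHom.noncommCoprod (zpowers x).subtype A.subtype fun z a => hz z z.2 a a.2
  let β : ↥A →* G := (MulAut.conj w).toMonoidHom.comp A.subtype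
  let φ : (↥(zpowers x) × ↥A) × ↥A →* G := MonoidHom.noncommCoprod φ1 β fun z b =>
    Commute.mul_left (hzw z.1 z.1.2 b b.2) (hc z.2 z.2.2 b b.2)
  have hφ : ∀ p, φ p = (p.1.1 : G) * p.1.2 * (w * p.2 * w⁻¹) := fun p => rfl
  -- equality of an element of `A` and one of `A ^ w`
  have hAAw : ∀ a ∈ A, ∀ b ∈ A, w * b * w⁻¹ = a → a = 1 := by
    intro a ha b hb h
    refine hcen a ha fun c hc' => ?_
    rw [← h]
    exact (hc c hc' b hb).symm
  have hinj : Function.Injective φ := by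
    rw [injective_iff_map_eq_one]
    rintro ⟨⟨⟨z, hz'⟩, ⟨a, ha⟩⟩, ⟨b, hb⟩⟩ h
    rw [hφ] at h
    have h0 : z * a * (w * b * w⁻¹) = 1 := h
    have ha1 : a = 1 := by
      refine hcen a ha fun c hc' => ?_
      have h1 : a = z⁻¹ * (w * b * w⁻¹)⁻¹ := by
        have h2 : a = z⁻¹ * (z * a * (w * b * w⁻¹)) * (w * b * w⁻¹)⁻¹ := by group
        rw [h0, mul_one] at h2
        exact h2
      rw [h1]
      exact Commute.mul_left (hz z hz' c hc').inv_left
        (Commute.inv_left (show Commute (w * b * w⁻¹) c from (hc c hc' b hb).symm))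
    rw [ha1, mul_one] at h0
    have hb1 : b = 1 := by
      refine hcen b hb fun c hc' => ?_
      have h1 : w * b * w⁻¹ = z⁻¹ := (inv_eq_of_mul_eq_one_right h0).symm
      have h2 : b = z⁻¹ := by
        have h3 := hww b
        rw [h1] at h3
        have h4 : Commute w z⁻¹ := by
          obtain ⟨k, rfl⟩ := hz'
          exact (Commute.zpow_right hwx k).inv_right
        rw [h4.eq, mul_assoc, mul_inv_cancel, mul_one] at h3
        exact h3.symm
      rw [h2]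
      exact (hz z hz' c hc').inv_left
    have hz1 : z = 1 := by
      rw [hb1] at h0
      simpa using h0
    subst ha1 hb1 hz1
    rfl
  have hle : φ.range ≤ centralizer ({x} : Set G) := by
    rintro _ ⟨⟨⟨⟨z, hz'⟩, ⟨a, ha⟩⟩, ⟨b, hb⟩⟩, rfl⟩
    rw [hφ, mem_centralizer_singleton_iff]
    have h1 : Commute x z := by
      obtain ⟨k, rfl⟩ := hz'
      exact Commute.zpow_right (Commute.refl x) k
    have h2 : Commute x a := hAx a ha
    exact (((h1.mul_right h2).mul_right (hAw b hb)).eq).symm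
  have hcard : Nat.card ↥φ.range = 18000 := by
    rw [← Nat.card_congr (MonoidHom.ofInjective hinj).toEquiv, Nat.card_prod, Nat.card_prod, h60, Nat.card_zpowers, hx]
  have hidx : (φ.range.subgroupOf (centralizer ({x} : Set G))).index = 2 := by
    have h1 := Subgroup.card_mul_index (φ.range.subgroupOf (centralizer ({x} : Set G)))
    rw [hC, Nat.card_congr (subgroupOfEquivOfLe hle).toEquiv, hcard] at h1
    omega
  have hwC : w ∈ centralizer ({x} : Set G) := mem_centralizer_singleton_iff.2 hwx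
  -- the action of the range on `A`
  have hconjA : ∀ d ∈ φ.range, ∀ c ∈ A, ∃ a ∈ A, d * c * d⁻¹ = a * c * a⁻¹ := by
    rintro _ ⟨⟨⟨⟨z, hz'⟩, ⟨a, ha⟩⟩, ⟨b, hb⟩⟩, rfl⟩ c hc'
    refine ⟨a, ha, ?_⟩
    rw [hφ]
    show (z * a * (w * b * w⁻¹)) * c * (z * a * (w * b * w⁻¹))⁻¹ = _
    have h1 : (w * b * w⁻¹) * c = c * (w * b * w⁻¹) := (hc c hc' b hb).symm
    have h2 : z * (a * c * a⁻¹) = (a * c * a⁻¹) * z := (hz z hz' _ (A.mul_mem (A.mul_mem ha hc') (A.inv_mem ha))).eq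
    calc (z * a * (w * b * w⁻¹)) * c * (z * a * (w * b * w⁻¹))⁻¹
        = z * a * ((w * b * w⁻¹) * c) * (w * b * w⁻¹)⁻¹ * a⁻¹ * z⁻¹ := by group
      _ = z * (a * c * a⁻¹) * z⁻¹ := by rw [h1]; group
      _ = a * c * a⁻¹ := by rw [h2]; group
  have hwD : w ∉ φ.range := by
    intro hwD
    have h1 : A = ⊥ := by
      rw [eq_bot_iff]
      intro c hc'
      obtain ⟨a, ha, h2⟩ := hconjA w hwD c hc'
      have h3 := hAAw _ (A.mul_mem (A.mul_mem ha hc') (A.inv_mem ha)) c hc' h2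
      rw [← h2] at h3
      have h4 : c = w⁻¹ * (w * c * w⁻¹) * w := by group
      rw [h4, h3, mul_one, inv_mul_cancel]
      exact one_mem _
    rw [h1, card_bot] at h60
    norm_num at h60
  -- the 5-group
  have hxr : Commute x r := hAx r hrA
  let R : Subgroup ((↥(zpowers x) × ↥A) × ↥A) := ((⊤ : Subgroup ↥(zpowers x)).prod (zpowers ⟨r, hrA⟩)).prod (zpowers ⟨r, hrA⟩)
  have hpow : ∀ a ∈ zpowers (⟨r, hrA⟩ : ↥A), a ^ 5 = 1 := by
    rintro _ ⟨k, rfl⟩
    have h1 : (⟨r, hrA⟩ : ↥A) ^ 5 = 1 := Subtype.ext hr5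
    show ((⟨r, hrA⟩ : ↥A) ^ k) ^ 5 = 1
    rw [← zpow_natCast, ← zpow_mul, mul_comm, zpow_mul, zpow_natCast, h1, one_zpow]
  have hx5 : x ^ 5 = 1 := by rw [← hx, pow_orderOf_eq_one]
  have hzp : ∀ z : ↥(zpowers x), z ^ 5 = 1 := by
    rintro ⟨_, ⟨k, rfl⟩⟩
    apply Subtype.ext
    show (x ^ k) ^ 5 = 1
    rw [← zpow_natCast, ← zpow_mul, mul_comm, zpow_mul, zpow_natCast, hx5, one_zpow]
  have hP : IsPGroup 5 ↥(R.map φ) := by
    rintro ⟨_, ⟨p, hp, rfl⟩⟩
    refine ⟨1, Subtype.ext ?_⟩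
    obtain ⟨⟨-, h2⟩, h3⟩ := hp
    show (φ p) ^ (5 ^ 1) = 1
    rw [pow_one, ← map_pow]
    have : p ^ 5 = 1 := Prod.ext (Prod.ext (hzp _) (hpow _ h2)) (hpow _ h3)
    rw [this, map_one]
  have mem1 : x ∈ R.map φ := ⟨((⟨x, mem_zpowers x⟩, 1), 1), ⟨⟨mem_top _, one_mem _⟩, one_mem _⟩, by rw [hφ]; simp⟩
  have mem2 : r ∈ R.map φ := ⟨((1, ⟨r, hrA⟩), 1), ⟨⟨mem_top _, mem_zpowers _⟩, one_mem _⟩, by rw [hφ]; simp⟩
  have mem3 : w * r * w⁻¹ ∈ R.map φ :=
    ⟨((1, 1), ⟨r, hrA⟩), ⟨⟨mem_top _, one_mem _⟩, mem_zpowers _⟩, by rw [hφ]; simp⟩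
  refine exists_sylow hP fun g hg => ⟨1, ?_⟩
  rw [mem_centralizer_iff] at hg
  have g1 := hg x mem1
  have g2 := hg r mem2
  have g3 := hg _ mem3
  have hgC : g ∈ centralizer ({x} : Set G) := mem_centralizer_singleton_iff.2 g1.symm
  by_cases hgD : g ∈ φ.range
  · obtain ⟨⟨⟨⟨z, hz'⟩, ⟨a, ha⟩⟩, ⟨b, hb⟩⟩, rfl⟩ := hgD
    rw [hφ] at g2 g3 ⊢
    change r * (z * a * (w * b * w⁻¹)) = (z * a * (w * b * w⁻¹)) * r at g2
    change (w * r * w⁻¹) * (z * a * (w * b * w⁻¹)) = (z * a * (w * b * w⁻¹)) * (w * r * w⁻¹) at g3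
    show (z * a * (w * b * w⁻¹)) ^ (5 ^ 1) = 1
    have c1 : r * z = z * r := (hz z hz' r hrA).eq.symm
    have c2 : r * (w * b * w⁻¹) = (w * b * w⁻¹) * r := hc r hrA b hb
    have ha5 : a ^ 5 = 1 := by
      refine hrc a ha ?_
      have h1 : z * (r * a) * (w * b * w⁻¹) = z * (a * r) * (w * b * w⁻¹) := by
        calc z * (r * a) * (w * b * w⁻¹) = (z * r) * a * (w * b * w⁻¹) := by group
          _ = r * (z * a * (w * b * w⁻¹)) := by rw [← c1]; group
          _ = (z * a * (w * b * w⁻¹)) * r := g2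
          _ = z * a * ((w * b * w⁻¹) * r) := by group
          _ = z * (a * r) * (w * b * w⁻¹) := by rw [← c2]; group
      have h2 := mul_right_cancel h1
      exact (mul_left_cancel h2).symm
    have c3 : (w * r * w⁻¹) * z = z * (w * r * w⁻¹) := (hzw z hz' r hrA).eq.symm
    have c4 : (w * r * w⁻¹) * a = a * (w * r * w⁻¹) := (hc a ha r hrA).symm
    have hb5 : b ^ 5 = 1 := by
      refine hrc b hb ?_
      have h1 : z * a * ((w * r * w⁻¹) * (w * b * w⁻¹)) = z * a * ((w * b * w⁻¹) * (w * r * w⁻¹)) := by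
        calc z * a * ((w * r * w⁻¹) * (w * b * w⁻¹)) = z * (a * (w * r * w⁻¹)) * (w * b * w⁻¹) := by group
          _ = (z * (w * r * w⁻¹)) * a * (w * b * w⁻¹) := by rw [← c4]; group
          _ = (w * r * w⁻¹) * (z * a * (w * b * w⁻¹)) := by rw [← c3]; group
          _ = (z * a * (w * b * w⁻¹)) * (w * r * w⁻¹) := g3
          _ = z * a * ((w * b * w⁻¹) * (w * r * w⁻¹)) := by group
      have h2 := mul_left_cancel h1
      have h3 : w * (r * b) * w⁻¹ = w * (b * r) * w⁻¹ := by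
        calc w * (r * b) * w⁻¹ = (w * r * w⁻¹) * (w * b * w⁻¹) := by group
          _ = (w * b * w⁻¹) * (w * r * w⁻¹) := h2
          _ = w * (b * r) * w⁻¹ := by group
      exact (mul_left_cancel (mul_right_cancel h3)).symm
    have hpp : φ ((⟨z, hz'⟩, ⟨a, ha⟩), ⟨b, hb⟩) ^ 5 = 1 := by
      rw [← map_pow]
      have : (((⟨z, hz'⟩, ⟨a, ha⟩), ⟨b, hb⟩) : (↥(zpowers x) × ↥A) × ↥A) ^ 5 = 1 :=
        Prod.ext (Prod.ext (hzp _) (Subtype.ext ha5)) (Subtype.ext hb5)
      rw [this, map_one]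
    rw [pow_one]
    exact hpp
  · exfalso
    -- `g w` is in the range
    have h1 : g * w ∈ φ.range := by
      have h2 := Subgroup.mul_mem_iff_of_index_two hidx (a := ⟨g, hgC⟩) (b := ⟨w, hwC⟩)
      have h3 : (⟨g, hgC⟩ * ⟨w, hwC⟩ : ↥(centralizer ({x} : Set G))) ∈ φ.range.subgroupOf (centralizer ({x} : Set G)) := by
        rw [h2, mem_subgroupOf, mem_subgroupOf]
        exact ⟨fun h => absurd h hgD, fun h => absurd h hwD⟩
      exact mem_subgroupOf.1 h3
    -- it maps `w r w` to `r`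
    obtain ⟨⟨⟨⟨z, hz'⟩, ⟨a, ha⟩⟩, ⟨b, hb⟩⟩, h2⟩ := h1
    rw [hφ] at h2
    change z * a * (w * b * w⁻¹) = g * w at h2
    have h3 : g = z * a * (w * b * w⁻¹) * w := by rw [h2, mul_assoc, hw, mul_one]
    have c3 : z * (w * (b * r * b⁻¹) * w⁻¹) = (w * (b * r * b⁻¹) * w⁻¹) * z :=
      (hzw z hz' _ (A.mul_mem (A.mul_mem hb hrA) (A.inv_mem hb))).eq
    have c4 : a * (w * (b * r * b⁻¹) * w⁻¹) = (w * (b * r * b⁻¹) * w⁻¹) * a :=
      hc a ha _ (A.mul_mem (A.mul_mem hb hrA) (A.inv_mem hb))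
    have h4 : w * (b * r * b⁻¹) * w⁻¹ = r := by
      calc w * (b * r * b⁻¹) * w⁻¹ = (w * (b * r * b⁻¹) * w⁻¹) * z * z⁻¹ := by group
        _ = z * ((w * (b * r * b⁻¹) * w⁻¹) * a) * a⁻¹ * z⁻¹ := by rw [← c3]; group
        _ = z * a * (w * b * w⁻¹) * (w * r * w⁻¹) * (z * a * (w * b * w⁻¹))⁻¹ := by rw [← c4]; group
        _ = z * a * (w * b * w⁻¹) * w * r * (z * a * (w * b * w⁻¹) * w)⁻¹ := by group
        _ = g * r * g⁻¹ := by rw [← h3]
        _ = r := by rw [← g2]; group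
    exact hr (hAAw r hrA _ (A.mul_mem (A.mul_mem hb hrA) (A.inv_mem hb)) h4)

end Abs

open MFiveHN.Cent in
theorem five : ∃ Q : Sylow 5 Spor.Co1, IsPGroup 5 ↥(centralizer ((Q : Subgroup Spor.Co1) : Set Spor.Co1)) := by
  have h4 : Even 4 := by decide
  obtain ⟨f⟩ := nonempty_equiv
  obtain ⟨r, hr⟩ : ∃ r : ↥AA, f r = cyc 4 h4 := f.surjective _
  have h1 : (cyc 4 h4) ^ 5 = 1 := comm_cyc h4 rfl
  have hne : cyc 4 h4 ≠ 1 := by
    intro h
    have h2 : finRotate 5 = 1 := congrArg Subtype.val h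
    have h3 := congrArg (fun s : Equiv.Perm (Fin 5) => s 0) h2
    exact absurd h3 (by decide)
  refine five_abs order_x simple_AA card_AA (fun a ha => (mem_centralizer_singleton_iff.1 (AA_le ha)).symm) w_x w_sq comm_AA
    H265.NH.CoOne.card_five (r := (r : Spor.Co1)) r.2 ?_ ?_ ?_
  · intro h
    apply hne
    rw [← hr, show r = 1 from Subtype.ext h, map_one]
  · have : r ^ 5 = 1 := f.injective (by rw [map_pow, hr, h1, map_one])
    have := congrArg Subtype.val this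
    simpa using this
  · intro a ha h
    have h2 : (⟨a, ha⟩ : ↥AA) * r = r * ⟨a, ha⟩ := Subtype.ext h
    have h3 := congrArg f h2
    rw [map_mul, map_mul, hr] at h3
    have h4 := comm_cyc h4 h3
    have h5 : (⟨a, ha⟩ : ↥AA) ^ 5 = 1 := f.injective (by rw [map_pow, h4, map_one])
    have := congrArg Subtype.val h5
    simpa using this

end Cfsg.Agent.H995.PBCoSyl
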