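import Cfsg.Agent.H709.PB.Guide
import Cfsg.Agent.H843.IMC.LamCo1
import Cfsg.Agent.H843.IMC.Co1B
import Cfsg.Agent.H843.IMC.Co1D
import Cfsg.Agent.H995.PBCoSyl

/-!
# S4826, the row `Co1` (helper995)

The principal 5-block contains all characters of degree prime to 5, the principal 7-block all characters of degree prime
to 7. Degrees 276, 299, those of the constituents of the fourth exterior power, and 17250.
-/

set_option autoImplicit false
set_option linter.unusedSectionVars false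

namespace Cfsg.Agent.H995.PBCo

open Cfsg Cfsg.Spor Cfsg.Agent.H33 Cfsg.Agent.H133.PB Cfsg.Agent.H843.IMC Cfsg.Agent.H843.IMC.Syn Cfsg.Agent.H843.IMC.Lam
open Cfsg.Agent.SporadicA.GolayBase Cfsg.Agent.SporadicStructure.M24El Cfsg.Agent.Characters.Core
open Cfsg.Agent.SporadicA.Co0Mono Cfsg.Agent.CoOneType.ClosingFacts Cfsg.Agent.H419.LeechIrr
open Cfsg.Agent.SporadicStructure.Co0Base Cfsg.Agent.CoOneType.SignFacts Cfsg.Agent.SporadicA.Co1Simple
open Cfsg.Agent.H843.IMC.LamCo1

section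

variable {G : Type*} [Group G] [Fintype G] {E : Type*} [Group E] [Fintype E]

/-- The degrees of all constituents of an exterior power. -/
theorem dvd_lam {p k : ℕ} [Fact p.Prime] (w : E →* Multiplicative (GolayPt → ZMod 2))
    (hw : Function.Injective w) (f : E →* G) {P : ℕ} (hP : ok P = true) (hPp : el P ^ p = 1) (σ : E ≃* E)
    (hσ : ∀ e i, (w (σ e)).toAdd (el P • i) = (w e).toAdd i) (x : G) (hx : ∀ e, f (σ e) = x * f e * x⁻¹)
    {W : G → ℂ} (hW : IsCharacter G W)
    (hWf : ∀ e, W (f e) = altk k (Matrix.diagonal fun i => sgnC ((w e).toAdd i)))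
    {bs : List ℕ} (hbs : ∀ m ∈ bs, ∃ e, (w e).toAdd = word m)
    (hchk : chk k 0 ((List.range 24).map (syn P bs)) = true) (ψ : IrrCharacter G) (hψ : classInner W ψ ≠ 0) :
    p ∣ charDegree (ψ : G → ℂ) := by
  classical
  have hiter : ∀ (n : ℕ) (e : E) (i : GolayPt), (w ((σ : E → E)^[n] e)).toAdd ((el P) ^ n • i) = (w e).toAdd i := by
    intro n
    induction n with
    | zero => intro e i; rw [pow_zero, one_smul]; rfl
    | succ n ih =>
      intro e i
      rw [Function.iterate_succ_apply', pow_succ', mul_smul, hσ]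
      exact ih e i
  have hWf' : W ∘ f = ∑ j : Fin k → GolayPt,
      (((k.factorial : ℂ))⁻¹ * (if Function.Injective j then (1 : ℂ) else 0)) • fun e => ((lamH w j e : ℂˣ) : ℂ) := by
    funext e
    rw [Function.comp_apply, hWf, altk_diagonal, Finset.sum_apply, Finset.mul_sum]
    refine Finset.sum_congr rfl fun j _ => ?_
    rw [Pi.smul_apply, smul_eq_mul, mul_assoc, lamH_apply, sgnC_sum]
  have hfree : ∀ j : Fin k → GolayPt, (((k.factorial : ℂ))⁻¹ * (if Function.Injective j then (1 : ℂ) else 0)) ≠ 0 →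
      (fun e => ((lamH w j e : ℂˣ) : ℂ)) ∘ σ ≠ fun e => ((lamH w j e : ℂˣ) : ℂ) := by
    intro j hj hcon
    have hj' : Function.Injective j := by
      by_contra h
      rw [if_neg h, mul_zero] at hj
      exact hj rfl
    -- the points moved back
    have hinj : Function.Injective fun t => (el P)⁻¹ • j t := fun s t h => hj' (MulAction.injective _ h)
    obtain ⟨m, hm, hne⟩ := exists_moved hP hchk hinj
    obtain ⟨e, he⟩ := hbs m hm
    have h1 := congrFun hcon e
    simp only [Function.comp_apply] at h1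
    rw [lamH_apply, lamH_apply] at h1
    have h2 := sgnC_injective h1
    apply hne
    simp only [smul_inv_smul]
    rw [← he, ← h2]
    refine Finset.sum_congr rfl fun t _ => ?_
    rw [← hσ e, smul_inv_smul]
  refine dvd_of_free p f x σ hx ?_ hW ?_ ψ hψ
  · intro e
    apply hw
    apply Multiplicative.toAdd.injective
    funext i
    have h := hiter p e i
    rwa [hPp, one_smul] at h
  · intro η hη h0
    have h1 : ∃ j, (((k.factorial : ℂ))⁻¹ * (if Function.Injective (j : Fin k → GolayPt) then (1 : ℂ) else 0)) ≠ 0 ∧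
        (fun e => ((lamH w j e : ℂˣ) : ℂ)) = η := by
      by_contra hcon
      push Not at hcon
      apply h0
      rw [hWf', classInner_sum_left, Finset.sum_eq_zero]
      intro j _
      rw [classInner_smul_left]
      by_cases hc : (((k.factorial : ℂ))⁻¹ * (if Function.Injective j then (1 : ℂ) else 0)) = 0
      · rw [hc, zero_mul]
      · rw [classInner_irr_ne (Cfsg.Agent.CharDeep.LinearChar.isIrrCharacter_of_hom (lamH w j)) hη (hcon j hc), mul_zero]
    obtain ⟨j, hj, rfl⟩ := h1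
    exact hfree j hj

end

theorem dvd_co1 [Fintype Spor.Co1] {p k : ℕ} [Fact p.Prime] (hk2 : Even k) {P : ℕ} (hP : ok P = true)
    (hPp : el P ^ p = 1) (hchk : chk k 0 ((List.range 24).map (syn P ((List.range 12).map basisMask))) = true)
    (ψ : IrrCharacter Spor.Co1) (hψ : classInner (W k) ψ ≠ 0) : p ∣ charDegree (ψ : Spor.Co1 → ℂ) := by
  classical
  have := Fintype.ofFinite (Multiplicative golayCode)
  refine dvd_lam (E := Multiplicative golayCode) wd ?_ sg hP hPp (wp (el P)) ?_ (mk (permCo0 (el P))) ?_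
    (isCharacter_W hk2) ?_ (bs := (List.range 12).map basisMask) ?_ hchk ψ hψ
  · intro a b h
    exact Subtype.ext h
  · intro e i
    show ((e.toAdd : golayCode) : GolayPt → ZMod 2) (((el P : M24) : Equiv.Perm GolayPt).symm
      (((el P : M24) : Equiv.Perm GolayPt) i)) = _
    rw [Equiv.symm_apply_apply]
    rfl
  · intro e
    show mk (signCo0 (wordPerm (el P) e.toAdd)) = mk (permCo0 (el P)) * mk (signCo0 e.toAdd) * (mk (permCo0 (el P)))⁻¹
    rw [← perm_mul_sign_mul_inv, mk_mul, mk_mul, mk_inv]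
  · intro e
    show W k (mk (signCo0 e.toAdd)) = _
    rw [W_mk hk2, matC_sign]
    rfl
  · intro m hm
    obtain ⟨i, hi, rfl⟩ := List.mem_map.1 hm
    rw [List.mem_range] at hi
    obtain ⟨h0, h1, h2, h3, h4, h5, h6, h7, h8, h9, h10, h11⟩ := basis_mem
    have h : word (basisMask i) ∈ golayCode := by
      interval_cases i
      · exact h0
      · exact h1
      · exact h2
      · exact h3
      · exact h4
      · exact h5
      · exact h6
      · exact h7
      · exact h8
      · exact h9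
      · exact h10
      · exact h11
    exact ⟨Multiplicative.ofAdd ⟨_, h⟩, rfl⟩

theorem W_one : W 4 1 = 10626 := by
  have h := W_mk (k := 4) (by decide) 1
  have h1 : mk (1 : Co0) = 1 := rfl
  have h2 : matC 1 = Matrix.diagonal fun _ : GolayPt => (1 : ℂ) := by rw [matC_one, Matrix.diagonal_one]
  rw [h1, h2, altk_diagonal] at h
  rw [h]
  simp only [Finset.prod_const_one, mul_one]
  rw [Finset.sum_boole]
  have h3 : (Finset.univ.filter fun i : Fin 4 → GolayPt => Function.Injective i).card = 255024 := by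
    rw [← Fintype.card_subtype, Fintype.card_congr (Equiv.subtypeInjectiveEquivEmbedding (Fin 4) GolayPt),
      Fintype.card_embedding_eq, Fintype.card_fin, Cfsg.Agent.SporadicA.LeechMin.card_pts]
    rfl
  rw [h3]
  norm_num [Nat.factorial]

/-- **A constituent of degree prime to 5.** -/
theorem exists_lam : ∃ ψ : IrrCharacter Spor.Co1, ¬ 5 ∣ charDegree (ψ : Spor.Co1 → ℂ) ∧ 7 ∣ charDegree (ψ : Spor.Co1 → ℂ) ∧
    11 ∣ charDegree (ψ : Spor.Co1 → ℂ) := by
  classical
  have h7 : Fact (Nat.Prime 7) := ⟨by norm_num⟩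
  have h11 : Fact (Nat.Prime 11) := ⟨by norm_num⟩
  have := Fintype.ofFinite Spor.Co1
  have : Finite (IrrCharacter Spor.Co1) := finite_irr
  have := Fintype.ofFinite (IrrCharacter Spor.Co1)
  have hk2 : Even 4 := by decide
  have hW := isCharacter_W hk2
  obtain ⟨m, hm⟩ := exists_nat_comb hW
  have h1 : W 4 = ∑ χ : IrrCharacter Spor.Co1, (m χ : ℂ) • (χ : Spor.Co1 → ℂ) := by
    funext g
    rw [hm]
    simp [Finset.sum_apply]
  have hin : ∀ ψ : IrrCharacter Spor.Co1, classInner (W 4) ψ = m ψ := by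
    intro ψ
    rw [h1, classInner_sum_left, Finset.sum_eq_single ψ]
    · rw [classInner_smul_left, classInner_irr_self ψ.2, mul_one]
    · intro θ _ hθ
      rw [classInner_smul_left, classInner_irr_ne θ.2 ψ.2 (fun h3 => hθ (Subtype.ext h3)), mul_zero]
    · intro h3
      exact absurd (Finset.mem_univ _) h3
  have hex : ∃ ψ : IrrCharacter Spor.Co1, m ψ ≠ 0 ∧ ¬ 5 ∣ charDegree (ψ : Spor.Co1 → ℂ) := by
    by_contra hcon
    push Not at hcon
    have h2 : ((10626 : ℕ) : ℂ) = ((∑ χ : IrrCharacter Spor.Co1, m χ * charDegree (χ : Spor.Co1 → ℂ) : ℕ) : ℂ) := by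
      have h3 := W_one
      rw [h1, Finset.sum_apply] at h3
      push_cast
      rw [← h3]
      refine Finset.sum_congr rfl fun χ _ => ?_
      rw [Pi.smul_apply, smul_eq_mul, Cfsg.Agent.Blocks.Basic.irr_one_eq_charDegree χ.2]
    have h3 : 10626 = ∑ χ : IrrCharacter Spor.Co1, m χ * charDegree (χ : Spor.Co1 → ℂ) := by exact_mod_cast h2
    have h4 : 5 ∣ 10626 := by
      rw [h3]
      refine Finset.dvd_sum fun χ _ => ?_
      by_cases h0 : m χ = 0
      · rw [h0, zero_mul]
        exact dvd_zero 5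
      · exact (hcon χ h0).mul_left _
    norm_num at h4
  obtain ⟨ψ, h0, h5⟩ := hex
  have h2 : classInner (W 4) ψ ≠ 0 := by
    rw [hin]
    exact_mod_cast h0
  exact ⟨ψ, h5, dvd_co1 hk2 ok7 (el_pow_eq_one ok7 pow7) chk7 ψ h2, dvd_co1 hk2 ok11 (el_pow_eq_one ok11 pow11) chk11 ψ h2⟩

theorem card_co1 : Nat.card Spor.Co1 = 2 ^ 21 * 3 ^ 9 * 5 ^ 4 * 7 ^ 2 * 11 * 13 * 23 := by
  rw [Cfsg.Agent.S0399.result.2]
  norm_num

theorem row {p : ℕ} (hp : p.Prime) (hd : p ∣ Nat.card Spor.Co1) : Row p Spor.Co1 := by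
  have h5 : Fact (Nat.Prime 5) := ⟨by norm_num⟩
  have h7 : Fact (Nat.Prime 7) := ⟨by norm_num⟩
  have hc := card_co1
  obtain ⟨Q5, hQ5⟩ := PBCoSyl.five
  obtain ⟨Q7, hQ7⟩ := PBCoSyl.seven
  have d5 : 5 ∣ Nat.card Spor.Co1 := by rw [hc]; norm_num
  have d7 : 7 ∣ Nat.card Spor.Co1 := by rw [hc]; norm_num
  obtain ⟨χ276, h276⟩ := Co1B.hasDeg_276
  obtain ⟨χ299, h299⟩ := Co1B.hasDeg_299
  obtain ⟨⟨χ, h17250⟩, -⟩ := Co1D.hasDeg
  obtain ⟨ψ, e5, e7, e11⟩ := exists_lam
  rw [hc] at hd
  have key : p = 2 ∨ p = 3 ∨ p = 5 ∨ p = 7 ∨ p = 11 ∨ p = 13 ∨ p = 23 := by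
    have h2 := Nat.prime_two
    rcases hp.dvd_mul.1 hd with hd | hd
    · rcases hp.dvd_mul.1 hd with hd | hd
      · rcases hp.dvd_mul.1 hd with hd | hd
        · rcases hp.dvd_mul.1 hd with hd | hd
          · rcases hp.dvd_mul.1 hd with hd | hd
            · rcases hp.dvd_mul.1 hd with hd | hd
              · exact Or.inl ((Nat.prime_dvd_prime_iff_eq hp (by norm_num)).1 (hp.dvd_of_dvd_pow hd))
              · exact Or.inr (Or.inl ((Nat.prime_dvd_prime_iff_eq hp (by norm_num)).1 (hp.dvd_of_dvd_pow hd)))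
            · exact Or.inr (Or.inr (Or.inl ((Nat.prime_dvd_prime_iff_eq hp (by norm_num)).1 (hp.dvd_of_dvd_pow hd))))
          · exact Or.inr (Or.inr (Or.inr (Or.inl ((Nat.prime_dvd_prime_iff_eq hp (by norm_num)).1 (hp.dvd_of_dvd_pow hd)))))
        · exact Or.inr (Or.inr (Or.inr (Or.inr (Or.inl ((Nat.prime_dvd_prime_iff_eq hp (by norm_num)).1 hd)))))
      · exact Or.inr (Or.inr (Or.inr (Or.inr (Or.inr (Or.inl ((Nat.prime_dvd_prime_iff_eq hp (by norm_num)).1 hd))))))
    · exact Or.inr (Or.inr (Or.inr (Or.inr (Or.inr (Or.inr ((Nat.prime_dvd_prime_iff_eq hp (by norm_num)).1 hd))))))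
  rcases key with rfl | rfl | rfl | rfl | rfl | rfl | rfl
  · exact Row.intro (q := 5) (by norm_num) (by norm_num) d5 (BD.of_sylow Q5 hQ5 χ276 (by rw [h276]; norm_num) (by rw [h276]; norm_num))
  · exact Row.intro (q := 5) (by norm_num) (by norm_num) d5 (BD.of_sylow Q5 hQ5 χ276 (by rw [h276]; norm_num) (by rw [h276]; norm_num))
  · exact Row.intro (q := 7) (by norm_num) (by norm_num) d7 (BD.of_sylow Q7 hQ7 χ (by rw [h17250]; norm_num) (by rw [h17250]; norm_num))
  · exact Row.intro (q := 5) (by norm_num) (by norm_num) d5 (BD.of_sylow Q5 hQ5 ψ e5 e7)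
  · exact Row.intro (q := 5) (by norm_num) (by norm_num) d5 (BD.of_sylow Q5 hQ5 ψ e5 e11)
  · exact Row.intro (q := 5) (by norm_num) (by norm_num) d5 (BD.of_sylow Q5 hQ5 χ299 (by rw [h299]; norm_num) (by rw [h299]; norm_num))
  · exact Row.intro (q := 5) (by norm_num) (by norm_num) d5 (BD.of_sylow Q5 hQ5 χ276 (by rw [h276]; norm_num) (by rw [h276]; norm_num))

universe u

/-- **Row `Co1` of S4826.** -/
theorem row_co1 {S : Type u} [Group S] (h : Cfsg.Spor.IsoCo1 S) {p : ℕ} (hp : p.Prime) (hd : p ∣ Nat.card S) :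
    Cfsg.Agent.H133.PB.Row p S := by
  obtain ⟨e⟩ := h
  rw [Nat.card_congr e.toEquiv] at hd
  exact (row hp hd).of_equiv e

end Cfsg.Agent.H995.PBCo
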