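import Cfsg.Agent.H995.BSchOrb

/-!
# The orbits on the base orbit: kernel checks (Baby Monster, helper995)
-/

set_option autoImplicit false
set_option linter.constructorNameAsVariable false

namespace Cfsg.Agent.H995.BSchOrb

open Cfsg.Agent.BabyM.Conc Cfsg.Agent.BabyM.TransData

theorem k00 : orbCheck T0.gens [] 16 1 0 = true := by decide +kernel
theorem k01 : orbCheck T0.gens [.X0] 16 0 1 = true := by decide +kernel
theorem k02 : orbCheck T0.gens [.y1] 16 891 891 = true := by decide +kernel
theorem k03 : orbCheck T0.gens [.p8, .xi, .p6] 16 1408 1408 = true := by decide +kernel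
theorem k10 : orbCheck T1.gens [] 7 28 28 = true := by decide +kernel
theorem k11 : orbCheck T1.gens [.p8] 7 2016 2016 = true := by decide +kernel
theorem k12 : orbCheck T1.gens [.p5, .xi, .p4] 7 256 256 = true := by decide +kernel
theorem k20 : orbCheck T2.gens [] 14 20 24 = true := by decide +kernel
theorem k21 : orbCheck T2.gens [.X0] 14 24 20 = true := by decide +kernel
theorem k22 : orbCheck T2.gens [.p2, .xi] 14 1232 1232 = true := by decide +kernel
theorem k23 : orbCheck T2.gens [.p6, .xi, .p6, .xi] 14 1024 1024 = true := by decide +kernel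
theorem k30 : orbCheck T3.gens [] 16 2016 2016 = true := by decide +kernel
theorem k31 : orbCheck T3.gens [.p9] 16 16 12 = true := by decide +kernel
theorem k32 : orbCheck T3.gens [.X0, .p9] 16 12 16 = true := by decide +kernel
theorem k33 : orbCheck T3.gens [.p2, .xi] 16 256 256 = true := by decide +kernel
theorem k40 : orbCheck T4.gens [] 15 455 436 = true := by decide +kernel
theorem k41 : orbCheck T4.gens [.X0] 15 436 455 = true := by decide +kernel
theorem k42 : orbCheck T4.gens [.y1] 15 1 0 = true := by decide +kernel
theorem k43 : orbCheck T4.gens [.X0, .y1] 15 0 1 = true := by decide +kernel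
theorem k44 : orbCheck T4.gens [.p8, .xi, .p6] 15 1408 1408 = true := by decide +kernel

end Cfsg.Agent.H995.BSchOrb
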