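import Cfsg.Agent.H995.BSchVal
import Cfsg.Agent.H995.BSchOrbK

/-!
# The association scheme of the Baby Monster on its transpositions: the concrete data (helper995)
-/

set_option autoImplicit false
set_option linter.constructorNameAsVariable false

namespace Cfsg.Agent.H995.BSchVal

open Cfsg.Agent.Lib.PermNet Cfsg.Agent.Monster.VecEngine Cfsg.Agent.Monster.VecSpace
open Cfsg.Agent.BabyM.Conc Cfsg.Agent.BabyM.TransInv Cfsg.Agent.BabyM.Inst Cfsg.Agent.BabyM.InstVec
  Cfsg.Agent.BabyM.InstZ Cfsg.Agent.BabyM.TransCover Cfsg.Agent.BabyM.TransData Cfsg.Agent.BabyM.TransOrd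
  Cfsg.Agent.BabyM.TransFields Cfsg.Agent.H995.BSch Cfsg.Agent.H995.BSchOrb

theorem u0 : cchk [] dv0 0 28 0 0 = true := by decide +kernel
theorem u1 : cchk [.X0] dv0 1 (-4) 0 0 = true := by decide +kernel
theorem u2 : cchk [.y1] dv0 1 (-4) 0 0 = true := by decide +kernel
theorem u3 : cchk [.p8, .xi, .p6] dv0 4 0 1281 1344 = true := by decide +kernel
theorem u4 : cchk [] dv1 1 4 0 0 = true := by decide +kernel
theorem u5 : cchk [.p8] dv1 4 0 208 1281 = true := by decide +kernel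
theorem u6 : cchk [.p5, .xi, .p4] dv1 2 0 0 0 = true := by decide +kernel
theorem u7 : cchk [] dv2 1 4 0 0 = true := by decide +kernel
theorem u8 : cchk [.X0] dv2 4 0 4985 1281 = true := by decide +kernel
theorem u9 : cchk [.p2, .xi] dv2 4 0 1283 1281 = true := by decide +kernel
theorem u10 : cchk [.p6, .xi, .p6, .xi] dv2 3 1 0 0 = true := by decide +kernel
theorem u11 : cchk [] dv3 4 0 64 48 = true := by decide +kernel
theorem u12 : cchk [.p9] dv3 4 0 48 4110 = true := by decide +kernel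
theorem u13 : cchk [.X0, .p9] dv3 2 0 0 0 = true := by decide +kernel
theorem u14 : cchk [.p2, .xi] dv3 3 1 0 0 = true := by decide +kernel
theorem u15 : cchk [] dv4 3 1 0 0 = true := by decide +kernel
theorem u16 : cchk [.X0] dv4 4 0 2049 16 = true := by decide +kernel
theorem u17 : cchk [.y1] dv4 3 1 0 0 = true := by decide +kernel
theorem u18 : cchk [.X0, .y1] dv4 1 (-4) 0 0 = true := by decide +kernel
theorem u19 : cchk [.p8, .xi, .p6] dv4 4 0 20 16 = true := by decide +kernel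

theorem w0 : cchk [.X0] dv0 1 (-4) 0 0 = true := by decide +kernel
theorem w1 : cchk [.X0, .X0] dv0 0 28 0 0 = true := by decide +kernel
theorem w2 : cchk [.X0, .y1] dv0 1 (-4) 0 0 = true := by decide +kernel
theorem w3 : cchk [.X0, .p8, .xi, .p6] dv0 4 0 1281 1344 = true := by decide +kernel
theorem w4 : cchk [.X0] dv1 1 (-4) 0 0 = true := by decide +kernel
theorem w5 : cchk [.X0, .p8] dv1 4 0 208 1281 = true := by decide +kernel
theorem w6 : cchk [.X0, .p5, .xi, .p4] dv1 2 0 0 0 = true := by decide +kernel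
theorem w7 : cchk [.X0] dv2 4 0 4985 1281 = true := by decide +kernel
theorem w8 : cchk [.X0, .X0] dv2 1 4 0 0 = true := by decide +kernel
theorem w9 : cchk [.X0, .p2, .xi] dv2 4 0 1283 1281 = true := by decide +kernel
theorem w10 : cchk [.X0, .p6, .xi, .p6, .xi] dv2 3 1 0 0 = true := by decide +kernel
theorem w11 : cchk [.X0] dv3 4 0 64 48 = true := by decide +kernel
theorem w12 : cchk [.X0, .p9] dv3 2 0 0 0 = true := by decide +kernel
theorem w13 : cchk [.X0, .X0, .p9] dv3 4 0 48 4110 = true := by decide +kernel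
theorem w14 : cchk [.X0, .p2, .xi] dv3 3 (-1) 0 0 = true := by decide +kernel
theorem w15 : cchk [.X0] dv4 4 0 2049 16 = true := by decide +kernel
theorem w16 : cchk [.X0, .X0] dv4 3 1 0 0 = true := by decide +kernel
theorem w17 : cchk [.X0, .y1] dv4 1 (-4) 0 0 = true := by decide +kernel
theorem w18 : cchk [.X0, .X0, .y1] dv4 3 1 0 0 = true := by decide +kernel
theorem w19 : cchk [.X0, .p8, .xi, .p6] dv4 4 0 20 16 = true := by decide +kernel

theorem b0 : cchk [.X0] dv0 1 (-4) 0 0 = true := by decide +kernel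
theorem b1 : cchk [] dv0 0 28 0 0 = true := by decide +kernel
theorem b2 : cchk [] dv0 0 28 0 0 = true := by decide +kernel
theorem b3 : cchk [.h] dv0 1 (-4) 0 0 = true := by decide +kernel
theorem b4 : cchk [.p10, .xi, .tau] dv1 0 28 0 0 = true := by decide +kernel
theorem b5 : cchk [] dv1 1 4 0 0 = true := by decide +kernel
theorem b6 : cchk [.tau, .p4] dv1 4 0 208 1281 = true := by decide +kernel
theorem b7 : cchk [.p10, .xi, .p10, .xi, .tau] dv2 0 28 0 0 = true := by decide +kernel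
theorem b8 : cchk [] dv2 1 4 0 0 = true := by decide +kernel
theorem b9 : cchk [] dv2 1 4 0 0 = true := by decide +kernel
theorem b10 : cchk [.y1] dv2 1 4 0 0 = true := by decide +kernel
theorem b11 : cchk [.h, .xi, .tau] dv3 1 (-4) 0 0 = true := by decide +kernel
theorem b12 : cchk [.p9, .xi, .p3, .xi, .tau] dv3 1 4 0 0 = true := by decide +kernel
theorem b13 : cchk [.p9] dv3 4 0 48 4110 = true := by decide +kernel
theorem b14 : cchk [.p4, .xi, .tau, .X2] dv3 1 (-4) 0 0 = true := by decide +kernel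
theorem b15 : cchk [.X0, .y1] dv4 1 (-4) 0 0 = true := by decide +kernel
theorem b16 : cchk [.X0, .y1] dv4 1 (-4) 0 0 = true := by decide +kernel
theorem b17 : cchk [.X0, .y1] dv4 1 (-4) 0 0 = true := by decide +kernel
theorem b18 : cchk [.p10, .xi, .tau, .p10, .xi, .tau, .p, .xi, .p, .xi, .tau] dv4 0 28 0 0 = true := by decide +kernel
theorem b19 : cchk [.h] dv4 3 1 0 0 = true := by decide +kernel

theorem n0 : cchk [.X0] dv0 1 (-4) 0 0 = true := by decide +kernel
theorem n1 : cchk [.X0] dv0 1 (-4) 0 0 = true := by decide +kernel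
theorem n2 : cchk [.y1] dv0 1 (-4) 0 0 = true := by decide +kernel
theorem n3 : cchk [.p8, .xi, .p6, .hi] dv0 1 (-4) 0 0 = true := by decide +kernel
theorem n4 : cchk [.taui, .xii, .p] dv0 1 4 0 0 = true := by decide +kernel
theorem n5 : cchk [.p8] dv0 1 4 0 0 = true := by decide +kernel
theorem n6 : cchk [.p5, .xi, .p4, .p7, .taui] dv0 1 4 0 0 = true := by decide +kernel
theorem n7 : cchk [.taui, .xii, .p, .xii, .p] dv0 1 4 0 0 = true := by decide +kernel
theorem n8 : cchk [.X0] dv0 1 (-4) 0 0 = true := by decide +kernel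
theorem n9 : cchk [.p2, .xi] dv0 1 4 0 0 = true := by decide +kernel
theorem n10 : cchk [.p6, .xi, .p6, .xi, .y1] dv0 1 4 0 0 = true := by decide +kernel
theorem n11 : cchk [.taui, .xii, .hi] dv0 1 (-4) 0 0 = true := by decide +kernel
theorem n12 : cchk [.p9, .taui, .xii, .p8, .xii, .p2] dv0 1 4 0 0 = true := by decide +kernel
theorem n13 : cchk [.X0, .p9, .p2] dv0 1 (-4) 0 0 = true := by decide +kernel
theorem n14 : cchk [.p2, .xi, .X2, .taui, .xii, .p7] dv0 1 (-4) 0 0 = true := by decide +kernel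
theorem n15 : cchk [.y1, .X0] dv0 1 (-4) 0 0 = true := by decide +kernel
theorem n16 : cchk [.X0, .y1, .X0] dv0 1 (-4) 0 0 = true := by decide +kernel
theorem n17 : cchk [.y1, .y1, .X0] dv0 1 (-4) 0 0 = true := by decide +kernel
theorem n18 : cchk [.X0, .y1, .taui, .xii, .p10, .xii, .p10, .taui, .xii, .p, .taui, .xii, .p] dv0 1 (-4) 0 0 = true := by decide +kernel
theorem n19 : cchk [.p8, .xi, .p6, .hi] dv0 1 (-4) 0 0 = true := by decide +kernel

theorem cs {v : List Ltr} {x : Pl} {c : Fin 5} {k : ℤ} {i i' : ℕ} (j : Fin 5) (hx : dv j = x)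
    (h : cchk v x c.1 k i i' = true) : col M (W v M.d₀) (M.d j) = c := by
  rw [M_d_eq, hx]
  exact cchk_sound h

theorem colu : ∀ r : Fin 20, col M (W (hw r) M.d₀) (M.d (jj r)) = cu r := by
  intro r
  fin_cases r
  · exact cs (c := 0) 0 rfl u0
  · exact cs (c := 1) 0 rfl u1
  · exact cs (c := 1) 0 rfl u2
  · exact cs (c := 4) 0 rfl u3
  · exact cs (c := 1) 1 rfl u4
  · exact cs (c := 4) 1 rfl u5
  · exact cs (c := 2) 1 rfl u6
  · exact cs (c := 1) 2 rfl u7
  · exact cs (c := 4) 2 rfl u8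
  · exact cs (c := 4) 2 rfl u9
  · exact cs (c := 3) 2 rfl u10
  · exact cs (c := 4) 3 rfl u11
  · exact cs (c := 4) 3 rfl u12
  · exact cs (c := 2) 3 rfl u13
  · exact cs (c := 3) 3 rfl u14
  · exact cs (c := 3) 4 rfl u15
  · exact cs (c := 4) 4 rfl u16
  · exact cs (c := 3) 4 rfl u17
  · exact cs (c := 1) 4 rfl u18
  · exact cs (c := 4) 4 rfl u19

theorem W_d₁ (v : List Ltr) : W v M.d₁ = W (.X0 :: v) M.d₀ := by
  rw [show (Ltr.X0 :: v) = [.X0] ++ v from rfl, W_append, LinearEquiv.mul_apply, W_X0]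

theorem colw : ∀ r : Fin 20, col M (W (hw r) M.d₁) (M.d (jj r)) = cw r := by
  intro r
  rw [W_d₁]
  fin_cases r
  · exact cs (c := 1) 0 rfl w0
  · exact cs (c := 0) 0 rfl w1
  · exact cs (c := 1) 0 rfl w2
  · exact cs (c := 4) 0 rfl w3
  · exact cs (c := 1) 1 rfl w4
  · exact cs (c := 4) 1 rfl w5
  · exact cs (c := 2) 1 rfl w6
  · exact cs (c := 4) 2 rfl w7
  · exact cs (c := 1) 2 rfl w8
  · exact cs (c := 4) 2 rfl w9
  · exact cs (c := 3) 2 rfl w10
  · exact cs (c := 4) 3 rfl w11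
  · exact cs (c := 2) 3 rfl w12
  · exact cs (c := 4) 3 rfl w13
  · exact cs (c := 3) 3 rfl w14
  · exact cs (c := 4) 4 rfl w15
  · exact cs (c := 3) 4 rfl w16
  · exact cs (c := 1) 4 rfl w17
  · exact cs (c := 3) 4 rfl w18
  · exact cs (c := 4) 4 rfl w19

theorem colb : ∀ r : Fin 20, col M (W (bw r) M.d₀) (M.d (jj r)) = wn r := by
  intro r
  fin_cases r
  · exact cs (c := 1) 0 rfl b0
  · exact cs (c := 0) 0 rfl b1
  · exact cs (c := 0) 0 rfl b2
  · exact cs (c := 1) 0 rfl b3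
  · exact cs (c := 0) 1 rfl b4
  · exact cs (c := 1) 1 rfl b5
  · exact cs (c := 4) 1 rfl b6
  · exact cs (c := 0) 2 rfl b7
  · exact cs (c := 1) 2 rfl b8
  · exact cs (c := 1) 2 rfl b9
  · exact cs (c := 1) 2 rfl b10
  · exact cs (c := 1) 3 rfl b11
  · exact cs (c := 1) 3 rfl b12
  · exact cs (c := 4) 3 rfl b13
  · exact cs (c := 1) 3 rfl b14
  · exact cs (c := 1) 4 rfl b15
  · exact cs (c := 1) 4 rfl b16
  · exact cs (c := 1) 4 rfl b17
  · exact cs (c := 0) 4 rfl b18
  · exact cs (c := 3) 4 rfl b19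

theorem coln' : ∀ r : Fin 20, col M (W (hw r ++ winv (bw r)) M.d₀) (M.d (0 : Fin 5)) = 1 := by
  intro r
  fin_cases r
  · exact cs (c := 1) 0 rfl n0
  · exact cs (c := 1) 0 rfl n1
  · exact cs (c := 1) 0 rfl n2
  · exact cs (c := 1) 0 rfl n3
  · exact cs (c := 1) 0 rfl n4
  · exact cs (c := 1) 0 rfl n5
  · exact cs (c := 1) 0 rfl n6
  · exact cs (c := 1) 0 rfl n7
  · exact cs (c := 1) 0 rfl n8
  · exact cs (c := 1) 0 rfl n9
  · exact cs (c := 1) 0 rfl n10
  · exact cs (c := 1) 0 rfl n11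
  · exact cs (c := 1) 0 rfl n12
  · exact cs (c := 1) 0 rfl n13
  · exact cs (c := 1) 0 rfl n14
  · exact cs (c := 1) 0 rfl n15
  · exact cs (c := 1) 0 rfl n16
  · exact cs (c := 1) 0 rfl n17
  · exact cs (c := 1) 0 rfl n18
  · exact cs (c := 1) 0 rfl n19

theorem coln (r : Fin 20) : col M (W (hw r) M.d₀) (W (bw r) M.d₀) = 1 := by
  rw [← coln' r, M_d_zero, W_append, W_winv, LinearEquiv.mul_apply]
  have h := col_smul (M := M) BabyM.Instance.all (W_mem_MG (bw r)) ((W (bw r))⁻¹ (W (hw r) M.d₀)) M.d₀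
  rw [Cfsg.Agent.BabyM.Model.apply_inv_self'] at h
  exact h

theorem hw_inC : ∀ r : Fin 20, (hw r).all BabyM.ConcGrp.inC = true := by decide +kernel

/-- The index of a representative. -/
theorem rep_index : ∀ j : Fin 5, ∀ r ∈ (TT j).reps, ∃ i : Fin 20, jj i = j ∧ hw i = r.h := by
  intro j
  fin_cases j
  · show ∀ r ∈ T0.reps, _
    unfold T0
    simp only [List.mem_cons, List.not_mem_nil, or_false, forall_eq_or_imp, forall_eq]
    exact ⟨⟨0, rfl, rfl⟩, ⟨1, rfl, rfl⟩, ⟨2, rfl, rfl⟩, ⟨3, rfl, rfl⟩⟩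
  · show ∀ r ∈ T1.reps, _
    unfold T1
    simp only [List.mem_cons, List.not_mem_nil, or_false, forall_eq_or_imp, forall_eq]
    exact ⟨⟨4, rfl, rfl⟩, ⟨5, rfl, rfl⟩, ⟨6, rfl, rfl⟩⟩
  · show ∀ r ∈ T2.reps, _
    unfold T2
    simp only [List.mem_cons, List.not_mem_nil, or_false, forall_eq_or_imp, forall_eq]
    exact ⟨⟨7, rfl, rfl⟩, ⟨8, rfl, rfl⟩, ⟨9, rfl, rfl⟩, ⟨10, rfl, rfl⟩⟩
  · show ∀ r ∈ T3.reps, _
    unfold T3
    simp only [List.mem_cons, List.not_mem_nil, or_false, forall_eq_or_imp, forall_eq]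
    exact ⟨⟨11, rfl, rfl⟩, ⟨12, rfl, rfl⟩, ⟨13, rfl, rfl⟩, ⟨14, rfl, rfl⟩⟩
  · show ∀ r ∈ T4.reps, _
    unfold T4
    simp only [List.mem_cons, List.not_mem_nil, or_false, forall_eq_or_imp, forall_eq]
    exact ⟨⟨15, rfl, rfl⟩, ⟨16, rfl, rfl⟩, ⟨17, rfl, rfl⟩, ⟨18, rfl, rfl⟩, ⟨19, rfl, rfl⟩⟩

theorem cover' (j : Fin 5) (b : V) (hb : b ∈ M.S) :
    ∃ r : Fin 20, jj r = j ∧ ∃ l ∈ M.C, l (M.d j) = M.d j ∧ pm b (l (W (hw r) M.d₀)) := by
  obtain ⟨l, hl, r, hr, h⟩ := BabyM.TransFields.cover j b hb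
  obtain ⟨i, hi, hi'⟩ := rep_index j r hr
  refine ⟨i, hi, l, hl.1, stab_d hl, ?_⟩
  rw [hi']
  exact h

/-- Half the lengths. -/
theorem cnt' : ∀ r : Fin 20, 2 * nn r ≤ {y | y ∈ M.S ∧ ∃ l ∈ stabC (vecU ℚ U (dv (jj r))),
    y = l (W (hw r) M.d₀) ∨ y = - l (W (hw r) M.d₀)}.ncard := by
  intro r
  fin_cases r
  · exact orb_card inC0 fix0 (by decide) k00 (by norm_num) (by norm_num)
  · exact orb_card inC0 fix0 (by decide) k01 (by norm_num) (by norm_num)
  · exact orb_card inC0 fix0 (by decide) k02 (by norm_num) (by norm_num)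
  · exact orb_card inC0 fix0 (by decide) k03 (by norm_num) (by norm_num)
  · exact orb_card inC1 fix1 (by decide) k10 (by norm_num) (by norm_num)
  · exact orb_card inC1 fix1 (by decide) k11 (by norm_num) (by norm_num)
  · exact orb_card inC1 fix1 (by decide) k12 (by norm_num) (by norm_num)
  · exact orb_card inC2 fix2 (by decide) k20 (by norm_num) (by norm_num)
  · exact orb_card inC2 fix2 (by decide) k21 (by norm_num) (by norm_num)
  · exact orb_card inC2 fix2 (by decide) k22 (by norm_num) (by norm_num)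
  · exact orb_card inC2 fix2 (by decide) k23 (by norm_num) (by norm_num)
  · exact orb_card inC3 fix3 (by decide) k30 (by norm_num) (by norm_num)
  · exact orb_card inC3 fix3 (by decide) k31 (by norm_num) (by norm_num)
  · exact orb_card inC3 fix3 (by decide) k32 (by norm_num) (by norm_num)
  · exact orb_card inC3 fix3 (by decide) k33 (by norm_num) (by norm_num)
  · exact orb_card inC4 fix4 (by decide) k40 (by norm_num) (by norm_num)
  · exact orb_card inC4 fix4 (by decide) k41 (by norm_num) (by norm_num)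
  · exact orb_card inC4 fix4 (by decide) k42 (by norm_num) (by norm_num)
  · exact orb_card inC4 fix4 (by decide) k43 (by norm_num) (by norm_num)
  · exact orb_card inC4 fix4 (by decide) k44 (by norm_num) (by norm_num)

theorem cnt (r : Fin 20) : 2 * nn r ≤
    {b | b ∈ M.S ∧ ∃ l ∈ M.C, l (M.d (jj r)) = M.d (jj r) ∧ pm b (l (W (hw r) M.d₀))}.ncard := by
  refine le_trans (cnt' r) ?_
  refine Set.ncard_le_ncard ?_ ?_
  · rintro y ⟨h1, l, hl, h2⟩
    exact ⟨h1, l, hl.1, stab_d hl, h2⟩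
  · exact (Set.finite_of_ncard_ne_zero (s := M.S) (by
      rw [BabyM.Instance.all.rep.S_card]; norm_num)).subset (fun y hy => hy.1)

/-- The lengths of the `C`-orbits. -/
def NN : Fin 5 → ℕ := ![9200, 7286400, 381542400, 7461273600, 19293798400]

theorem len (j : Fin 5) : {x | ∃ g ∈ M.C, x = g (M.d j)}.ncard = NN j := by
  haveI : Finite C := BabyM.Instance.all.grp.finite_C
  exact BabyM.CertAsm.hN (BabyM.OrbInst.nb BabyM.KLink.link) BabyM.Instance.all.rep.S_card j

theorem mem_C (r : Fin 20) : W (hw r) ∈ M.C := BabyM.ConcGrp.W_mem_C (hw_inC r)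

noncomputable instance : DecidableEq M.J := inferInstanceAs (DecidableEq (Fin 5))

noncomputable instance : Fintype M.J := inferInstanceAs (Fintype (Fin 5))

/-- **The data of the scheme.** -/
theorem sch : Sch M (Fin 20) jj (fun r => W (hw r)) cu cw wn nx nn NN where
  mem := mem_C
  cover := cover'
  colu := colu
  colw := colw
  uniq := uniq
  link r := ⟨W (bw r) M.d₀, W_mem_D _, coln r, colb r⟩
  next := next
  fuse := fuse
  zero r h := by
    have := zero r h
    subst this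
    show pm (W [] M.d₀) (M.d (0 : Fin 5))
    rw [M_d_zero, W_nil]
    exact pm.refl _
  cnt := cnt
  sum := sum
  len := len

end Cfsg.Agent.H995.BSchVal
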