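import Cfsg.Agent.BabyM.TransFields
import Cfsg.Agent.BabyM.Instance

/-!
# The orbits of the stabilisers on the base orbit (Baby Monster, helper995)

For every representative `d j` of the `C`-orbits of axes and every representative of the orbits of the stabiliser of
`d j` in `C` on the base orbit: a lower bound for the length of the orbit, by saturation in the kernel.
-/

set_option autoImplicit false
set_option exponentiation.threshold 2000
set_option linter.constructorNameAsVariable false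

namespace Cfsg.Agent.H995.BSchOrb

open Cfsg.Agent.Lib.PermNet Cfsg.Agent.Monster.VecEngine Cfsg.Agent.Monster.VecSpace
open Cfsg.Agent.Monster.PlaneArith
open Cfsg.Agent.BabyM.Conc Cfsg.Agent.BabyM.STabData Cfsg.Agent.BabyM.STabTrack
  Cfsg.Agent.BabyM.STabCover Cfsg.Agent.BabyM.STabHead Cfsg.Agent.BabyM.STabLetters Cfsg.Agent.BabyM.TransInv
  Cfsg.Agent.BabyM.Inst Cfsg.Agent.BabyM.InstVec Cfsg.Agent.BabyM.InstZ Cfsg.Agent.BabyM.TransCover
  Cfsg.Agent.BabyM.TransData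

section generic

variable {W : Type*} [AddCommGroup W] [Module ℚ W] {E : ℕ} {u e : ℕ → W}

/-- Saturate `n` times, then go on with `k`. -/
noncomputable def satK (ws : List (List (Prog × ℕ))) (k : ℕ → ℕ → Bool) (n : ℕ) : ℕ → ℕ → Bool :=
  Nat.rec (motive := fun _ => ℕ → ℕ → Bool) k (fun _ ih A B => foldW ws A B ih) n

theorem satK_sound {L : Subgroup (W ≃ₗ[ℚ] W)} {A₀ B₀ : ℕ} {ws : List (List (Prog × ℕ))}
    (hws : ∀ w ∈ ws, ∃ g ∈ L, WordOK E u e w g) {k : ℕ → ℕ → Bool} {n : ℕ} :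
    ∀ {A B : ℕ}, Sub A E → Sub B E → (∀ y ∈ Lines u e A B, ∃ l ∈ L, ∃ x ∈ Lines u e A₀ B₀, y = l x) →
      satK ws k n A B = true →
      ∃ A' B', Sub A' E ∧ Sub B' E ∧ k A' B' = true ∧
        ∀ y ∈ Lines u e A' B', ∃ l ∈ L, ∃ x ∈ Lines u e A₀ B₀, y = l x := by
  induction n with
  | zero => intro A B hA hB hX h; exact ⟨A, B, hA, hB, h, hX⟩
  | succ n ih =>
    intro A B hA hB hX h
    have h' : foldW ws A B (satK ws k n) = true := h
    obtain ⟨A', B', hA', hB', h1, h2⟩ := foldW_sound hws hA hB hX h'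
    exact ih hA' hB' h2 h1

/-! ### The parametrisation of the lines -/

/-- The lines with signs. -/
noncomputable def ff (u e : ℕ → W) (p : ℕ × Bool × Bool) : W := sgQ p.2.2 • (u p.1 + sgQ p.2.1 • e p.1)

theorem ff_ff (i : ℕ) : ff u e (i, false, false) = u i + e i := by simp [ff, sgQ]
theorem ff_ft (i : ℕ) : ff u e (i, false, true) = -(u i + e i) := by
  simp [ff, sgQ]; abel
theorem ff_tf (i : ℕ) : ff u e (i, true, false) = u i - e i := by simp [ff, sgQ, sub_eq_add_neg]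
theorem ff_tt (i : ℕ) : ff u e (i, true, true) = -(u i - e i) := by
  simp [ff, sgQ]; abel

/-- The lanes of a mask. -/
def lanes (A : ℕ) : Finset ℕ := (Finset.range (2 ^ 13)).filter (fun i => A.testBit i = true)

theorem mem_lanes {A i : ℕ} : i ∈ lanes A ↔ i < 2 ^ 13 ∧ A.testBit i = true := by
  unfold lanes
  rw [Finset.mem_filter, Finset.mem_range]

/-- The parameters of the lines of two masks. -/
def PP (A B : ℕ) : Finset (ℕ × Bool × Bool) := (lanes A ×ˢ {(false, false), (false, true)}) ∪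
    (lanes B ×ˢ {(true, false), (true, true)})

theorem mem_PP {A B : ℕ} {i : ℕ} {δ ε : Bool} : (i, δ, ε) ∈ PP A B ↔
    (δ = false ∧ i ∈ lanes A) ∨ (δ = true ∧ i ∈ lanes B) := by
  unfold PP
  rw [Finset.mem_union, Finset.mem_product, Finset.mem_product]
  cases δ <;> cases ε <;> simp

theorem card_PP (A B : ℕ) : (PP A B).card = 2 * ((lanes A).card + (lanes B).card) := by
  unfold PP
  have hd : Disjoint (lanes A ×ˢ ({(false, false), (false, true)} : Finset (Bool × Bool)))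
      (lanes B ×ˢ ({(true, false), (true, true)} : Finset (Bool × Bool))) := by
    rw [Finset.disjoint_left]
    rintro ⟨i, δ, ε⟩ h3 h4
    rw [Finset.mem_product] at h3 h4
    have h5 := h3.2
    have h6 := h4.2
    simp only [Finset.mem_insert, Finset.mem_singleton, Prod.mk.injEq] at h5 h6
    rcases h5 with h5 | h5 <;> rcases h6 with h6 | h6 <;> rw [h5.1] at h6 <;> exact absurd h6.1 (by simp)
  rw [Finset.card_union_of_disjoint hd, Finset.card_product, Finset.card_product]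
  have e1 : ({(false, false), (false, true)} : Finset (Bool × Bool)).card = 2 := by decide
  have e2 : ({(true, false), (true, true)} : Finset (Bool × Bool)).card = 2 := by decide
  rw [e1, e2]; ring

/-- The lines of two masks are the values of the parametrisation. -/
theorem Lines_eq {A B : ℕ} (hA : ∀ i, A.testBit i = true → i < 2 ^ 13) (hB : ∀ i, B.testBit i = true → i < 2 ^ 13) :
    Lines u e A B = ff u e '' (PP A B : Set (ℕ × Bool × Bool)) := by
  ext x
  constructor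
  · rintro ⟨i, (⟨hi, rfl | rfl⟩ | ⟨hi, rfl | rfl⟩)⟩
    · exact ⟨(i, false, false), by rw [Finset.mem_coe, mem_PP]; exact Or.inl ⟨rfl, mem_lanes.2 ⟨hA i hi, hi⟩⟩, ff_ff i⟩
    · exact ⟨(i, false, true), by rw [Finset.mem_coe, mem_PP]; exact Or.inl ⟨rfl, mem_lanes.2 ⟨hA i hi, hi⟩⟩, ff_ft i⟩
    · exact ⟨(i, true, false), by rw [Finset.mem_coe, mem_PP]; exact Or.inr ⟨rfl, mem_lanes.2 ⟨hB i hi, hi⟩⟩, ff_tf i⟩
    · exact ⟨(i, true, true), by rw [Finset.mem_coe, mem_PP]; exact Or.inr ⟨rfl, mem_lanes.2 ⟨hB i hi, hi⟩⟩, ff_tt i⟩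
  · rintro ⟨⟨i, δ, ε⟩, h, rfl⟩
    rw [Finset.mem_coe, mem_PP] at h
    rcases h with ⟨rfl, h⟩ | ⟨rfl, h⟩
    · refine ⟨i, Or.inl ⟨(mem_lanes.1 h).2, ?_⟩⟩
      cases ε
      · exact Or.inl (ff_ff i)
      · exact Or.inr (ff_ft i)
    · refine ⟨i, Or.inr ⟨(mem_lanes.1 h).2, ?_⟩⟩
      cases ε
      · exact Or.inl (ff_tf i)
      · exact Or.inr (ff_tt i)

theorem inj_of_card {S : Set W} {n : ℕ} (hE : ∀ i, E.testBit i = true → i < 2 ^ 13) (hn : (lanes E).card = n)
    (hS : S.ncard = 4 * n) (hsub : S ⊆ Lines u e E E) : Set.InjOn (ff u e) (PP E E : Set (ℕ × Bool × Bool)) := by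
  classical
  apply Finset.injOn_of_card_image_eq
  apply le_antisymm Finset.card_image_le
  rw [card_PP, hn, show 2 * (n + n) = 4 * n by ring, ← hS, ← Set.ncard_coe_finset]
  refine Set.ncard_le_ncard ?_ (Finset.finite_toSet _)
  rw [Finset.coe_image, ← Lines_eq hE hE]
  exact hsub

theorem ncard_Lines_of {A B : ℕ} (hE : ∀ i, E.testBit i = true → i < 2 ^ 13)
    (hinj : Set.InjOn (ff u e) (PP E E : Set (ℕ × Bool × Bool))) (hA : Sub A E) (hB : Sub B E) :
    (Lines u e A B).ncard = 2 * ((lanes A).card + (lanes B).card) := by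
  rw [Lines_eq (fun i hi => hE i (hA i hi)) (fun i hi => hE i (hB i hi)), Set.InjOn.ncard_image, Set.ncard_coe_finset,
    card_PP]
  refine hinj.mono ?_
  rintro ⟨i, δ, ε⟩ h
  rw [Finset.mem_coe, mem_PP] at h ⊢
  simp only [mem_lanes] at h ⊢
  rcases h with ⟨h1, h2, h3⟩ | ⟨h1, h2, h3⟩
  · exact Or.inl ⟨h1, h2, hA i h3⟩
  · exact Or.inr ⟨h1, h2, hB i h3⟩

end generic

/-- The kernel check: the orbit of the line of `W h d₀` has at least `a` lines `u i + e i` and `b` lines `u i - e i`. -/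
noncomputable def orbCheck (gens : List (List Ltr)) (h : List Ltr) (n a b : ℕ) : Bool :=
  runW (wl h) (Nat.pow 2 1281) 0
    (satK (gens.map wl) (fun A B => and (cardIs 13 12 a A) (cardIs 13 12 b B)) n)

theorem orb_sound {T : Tab} {x : Pl} (hw : inCT T = true) (hf : fixCheck T x = true) {h : List Ltr}
    (hh : h.all BabyM.ConcGrp.inC = true) {n a b : ℕ} (hc : orbCheck T.gens h n a b = true) :
    ∃ A B, Sub A mE ∧ Sub B mE ∧ cardIs 13 12 a A = true ∧ cardIs 13 12 b B = true ∧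
      ∀ y ∈ Lines u e A B, ∃ l ∈ stabC (vecU ℚ U x), y = l (W h M.d₀) ∨ y = - l (W h M.d₀) := by
  unfold inCT at hw
  rw [Bool.and_eq_true, List.all_eq_true, List.all_eq_true] at hw
  unfold fixCheck at hf
  rw [List.all_eq_true] at hf
  obtain ⟨A', B', hA', hB', h2, h3⟩ := runW_sound (wordOK_of_inC hh) sub_base sub_zero hc
  have hws : ∀ w ∈ T.gens.map wl, ∃ g ∈ stabC (vecU ℚ U x), WordOK mE u e w g := by
    intro w hw'
    obtain ⟨g, hg, rfl⟩ := List.mem_map.1 hw'
    exact ⟨W g, ⟨BabyM.ConcGrp.W_mem_C (hw.2 g hg), W_fix_of_check (hf g hg)⟩, wordOK_of_inC (hw.2 g hg)⟩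
  obtain ⟨A, B, hA, hB, h4, h5⟩ := satK_sound (A₀ := A') (B₀ := B') hws hA' hB'
    (fun y hy => ⟨1, Subgroup.one_mem _, y, hy, rfl⟩) h2
  rw [Bool.and_eq_true] at h4
  refine ⟨A, B, hA, hB, h4.1, h4.2, fun y hy => ?_⟩
  obtain ⟨l, hl, z, hz, rfl⟩ := h5 y hy
  obtain ⟨z', hz', rfl⟩ := h3 z hz
  refine ⟨l, hl, ?_⟩
  rcases base_Lines hz' with rfl | rfl
  · exact Or.inl rfl
  · exact Or.inr (by rw [map_neg, map_neg])

theorem mE_lt : mE < 2 ^ 2 ^ 13 := by decide +kernel

theorem lt_of_mE : ∀ i : ℕ, mE.testBit i = true → i < 2 ^ 13 := by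
  intro i h
  by_contra hc
  have h1 : mE.testBit i = false := Nat.testBit_lt_two_pow (lt_of_lt_of_le mE_lt
    (Nat.pow_le_pow_right (by norm_num) (not_lt.1 hc)))
  rw [h1] at h
  exact absurd h (by simp)

theorem mE_card_check : cardIs 13 12 2300 mE = true := by decide +kernel

theorem card_mE : (lanes mE).card = 2300 := cardIs_sound (by norm_num) mE_card_check

theorem ff_inj : Set.InjOn (ff u e) (PP mE mE : Set (ℕ × Bool × Bool)) :=
  inj_of_card (S := M.S) lt_of_mE card_mE Cfsg.Agent.BabyM.Instance.all.rep.S_card S_subset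

/-- **A lower bound for the orbit of a representative.** -/
theorem orb_card {T : Tab} {x : Pl} (hw : inCT T = true) (hf : fixCheck T x = true) {h : List Ltr}
    (hh : h.all BabyM.ConcGrp.inC = true) {n a b : ℕ} (hc : orbCheck T.gens h n a b = true) (ha : a < 2 ^ 12)
    (hb : b < 2 ^ 12) :
    2 * (a + b) ≤ {y | y ∈ M.S ∧ ∃ l ∈ stabC (vecU ℚ U x), y = l (W h M.d₀) ∨ y = - l (W h M.d₀)}.ncard := by
  obtain ⟨A, B, hA, hB, h1, h2, h3⟩ := orb_sound hw hf hh hc
  have e1 : (lanes A).card = a := cardIs_sound ha h1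
  have e2 : (lanes B).card = b := cardIs_sound hb h2
  have e3 := ncard_Lines_of lt_of_mE ff_inj hA hB
  rw [e1, e2] at e3
  rw [← e3]
  have hfin : {y | y ∈ M.S ∧ ∃ l ∈ stabC (vecU ℚ U x), y = l (W h M.d₀) ∨ y = - l (W h M.d₀)}.Finite := by
    refine Set.Finite.subset (Set.finite_of_ncard_ne_zero (s := M.S) ?_) (fun y hy => hy.1)
    rw [Cfsg.Agent.BabyM.Instance.all.rep.S_card]
    norm_num
  refine Set.ncard_le_ncard (fun y hy => ?_) hfin
  obtain ⟨l, hl, h4⟩ := h3 y hy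
  refine ⟨?_, l, hl, h4⟩
  obtain ⟨n, hn, hn'⟩ := Cfsg.Agent.BabyM.Instance.all.rep.neg
  rcases h4 with rfl | rfl
  · exact ⟨l * W h, C.mul_mem hl.1 (BabyM.ConcGrp.W_mem_C hh), rfl⟩
  · refine ⟨l * W h * n, C.mul_mem (C.mul_mem hl.1 (BabyM.ConcGrp.W_mem_C hh)) hn, ?_⟩
    rw [LinearEquiv.mul_apply, hn', map_neg]
    rfl

end Cfsg.Agent.H995.BSchOrb
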