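import Cfsg.Agent.H995.BSchX
import Cfsg.Agent.BabyM.TransFields
import Cfsg.Agent.BabyM.Instance

/-!
# The colours of the pairs of representatives: kernel checks (Baby Monster, helper995)
-/

set_option autoImplicit false
set_option linter.constructorNameAsVariable false

namespace Cfsg.Agent.H995.BSchVal

open Cfsg.Agent.Lib.PermNet Cfsg.Agent.Monster.VecEngine Cfsg.Agent.Monster.VecSpace
open Cfsg.Agent.BabyM.Conc Cfsg.Agent.BabyM.TransInv Cfsg.Agent.BabyM.Inst Cfsg.Agent.BabyM.InstVec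
  Cfsg.Agent.BabyM.InstZ Cfsg.Agent.BabyM.TransCover Cfsg.Agent.BabyM.TransData Cfsg.Agent.BabyM.TransOrd
  Cfsg.Agent.BabyM.TransFields Cfsg.Agent.H995.BSch

/-- The index of the `C`-orbit. -/
def jj : Fin 20 → Fin 5 := ![0, 0, 0, 0, 1, 1, 1, 2, 2, 2, 2, 3, 3, 3, 3, 4, 4, 4, 4, 4]

/-- The words of the representatives. -/
def hw : Fin 20 → List Ltr := ![[], [.X0], [.y1], [.p8, .xi, .p6], [], [.p8], [.p5, .xi, .p4], [], [.X0],
  [.p2, .xi], [.p6, .xi, .p6, .xi], [], [.p9], [.X0, .p9], [.p2, .xi], [], [.X0], [.y1], [.X0, .y1],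
  [.p8, .xi, .p6]]

/-- The words of the neighbours. -/
def bw : Fin 20 → List Ltr := ![[.X0], [], [], [.h], [.p10, .xi, .tau], [], [.tau, .p4],
  [.p10, .xi, .p10, .xi, .tau], [], [], [.y1], [.h, .xi, .tau], [.p9, .xi, .p3, .xi, .tau], [.p9],
  [.p4, .xi, .tau, .X2], [.X0, .y1], [.X0, .y1], [.X0, .y1],
  [.p10, .xi, .tau, .p10, .xi, .tau, .p, .xi, .p, .xi, .tau], [.h]]

/-- The colour with the axis. -/
def cu : Fin 20 → Fin 5 := ![0, 1, 1, 4, 1, 4, 2, 1, 4, 4, 3, 4, 4, 2, 3, 3, 4, 3, 1, 4]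

/-- The colour of the partner with the axis. -/
def cw : Fin 20 → Fin 5 := ![1, 0, 1, 4, 1, 4, 2, 4, 1, 4, 3, 4, 2, 4, 3, 4, 3, 1, 3, 4]

/-- The colour of the neighbour with the axis. -/
def wn : Fin 20 → Fin 5 := ![1, 0, 0, 1, 0, 1, 4, 0, 1, 1, 1, 1, 1, 4, 1, 1, 1, 1, 0, 3]

/-- The next representative. -/
def nx : Fin 20 → Fin 20 := ![0, 1, 1, 8, 1, 8, 13, 1, 8, 8, 17, 8, 8, 13, 17, 17, 8, 17, 1, 16]

/-- Half the number of axes in the orbit. -/
def nn : Fin 20 → ℕ := ![1, 1, 1782, 2816, 56, 4032, 512, 44, 44, 2464, 2048, 4032, 28, 28, 512, 891, 891, 1, 1, 2816]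

theorem uniq : ∀ r r' : Fin 20, jj r = jj r' → cu r = cu r' → cw r = cw r' → r = r' := by decide +kernel

theorem next : ∀ r r' : Fin 20, cu r' = cu r → cw r' = wn r → r' = nx r := by decide +kernel

theorem fuse : ∀ r r' : Fin 20, cu r = cu r' → nx (nx r) = nx (nx r') := by decide +kernel

theorem sum : ∀ j : Fin 5, (∑ r, if jj r = j then 2 * nn r else 0) = 9200 := by decide +kernel

theorem zero : ∀ r : Fin 20, cu r = 0 → r = 0 := by decide +kernel

/-! ### The kernel checks -/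

/-- The transposition of `W v d₀` moves the line of `x`. -/
noncomputable def ncheck (v : List Ltr) (x : Pl) (i j : ℕ) : Bool :=
  and (and (U.testBit i) (U.testBit j)) (runL ((tw v).map Ltr.prog) x fun y =>
    and (!decide (val y i = val x i)) (!decide (val y j = - val x j)))

theorem ncheck_sound {v : List Ltr} {x : Pl} {i j : ℕ} (h : ncheck v x i j = true) :
    ¬ pm (W (tw v) ((1 / 8 : ℚ) • vecU ℚ U x)) ((1 / 8 : ℚ) • vecU ℚ U x) := by
  unfold ncheck at h
  rw [Bool.and_eq_true, Bool.and_eq_true] at h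
  obtain ⟨⟨hi, hj⟩, h⟩ := h
  obtain ⟨y, hy, h1⟩ := W_run h
  rw [Bool.and_eq_true, Bool.not_eq_true', Bool.not_eq_true', decide_eq_false_iff_not,
    decide_eq_false_iff_not] at h1
  obtain ⟨h1, h2⟩ := h1
  have e1 : ∀ (k : ℕ) (hk : U.testBit k = true), vecU ℚ U y ⟨k, hk⟩ = (val y k : ℚ) := fun k hk => rfl
  have e2 : ∀ (k : ℕ) (hk : U.testBit k = true), vecU ℚ U x ⟨k, hk⟩ = (val x k : ℚ) := fun k hk => rfl
  rintro (h3 | h3)
  · rw [map_smul, ← hy] at h3
    have h4 := smul_right_injective V (show (1 / 8 : ℚ) ≠ 0 by norm_num) h3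
    have h5 := congrFun h4 ⟨i, hi⟩
    rw [e1, e2] at h5
    exact h1 (by exact_mod_cast h5)
  · rw [map_smul, ← hy, ← smul_neg] at h3
    have h4 := smul_right_injective V (show (1 / 8 : ℚ) ≠ 0 by norm_num) h3
    have h5 : vecU ℚ U y ⟨j, hj⟩ = - vecU ℚ U x ⟨j, hj⟩ := congrFun h4 ⟨j, hj⟩
    rw [e1, e2] at h5
    exact h2 (by exact_mod_cast h5)

/-- The kernel check of a colour. -/
noncomputable def cchk (v : List Ltr) (x : Pl) (c : ℕ) (k : ℤ) (i j : ℕ) : Bool :=
  and (valCheck x ⟨v, k, 0, false⟩)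
    (bif Nat.beq c 0 then decide (k = 28)
    else bif Nat.beq c 1 then decide (k = 4 ∨ k = -4)
    else bif Nat.beq c 2 then and (decide (k = 0)) (check ((tw v).map Ltr.prog) x [] (neg U x))
    else bif Nat.beq c 3 then decide (k = 1 ∨ k = -1)
    else and (decide (k = 0)) (ncheck v x i j))

theorem W_mem_D (v : List Ltr) : W v M.d₀ ∈ M.D :=
  D_smul (M := M) BabyM.Instance.all (W_mem_MG v) (BabyM.Instance.all.d₀_mem)

theorem comm_W {v : List Ltr} {y : V} : Comm M (W v M.d₀) y ↔ pm (W (tw v) y) y := by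
  have h := comm_iff (M := M) (y := y) BabyM.Instance.all (W_mem_MG v) (pm.refl (W v M.d₀)) (W_mem_D v)
  have h2 : W v * M.t₀ * (W v)⁻¹ = W (tw v) := (W_tw v).symm
  rw [h2] at h
  exact h

theorem cchk_sound {v : List Ltr} {x : Pl} {c : Fin 5} {k : ℤ} {i j : ℕ} (h : cchk v x c.1 k i j = true) :
    col M (W v M.d₀) ((1 / 8 : ℚ) • vecU ℚ U x) = c := by
  unfold cchk at h
  rw [Bool.and_eq_true] at h
  obtain ⟨h0, h⟩ := h
  have hF0 := val_sound (x := x) (r := ⟨v, k, 0, false⟩) h0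
  have hF : M.F (W v M.d₀) ((1 / 8 : ℚ) • vecU ℚ U x) = (k : ℚ) / 4 := hF0
  fin_cases c
  · have h' : decide (k = 28) = true := h
    rw [decide_eq_true_eq] at h'
    show col M _ _ = 0
    rw [col_zero_iff, hF, h']
    norm_num
  · have h' : decide (k = 4 ∨ k = -4) = true := h
    rw [decide_eq_true_eq] at h'
    show col M _ _ = 1
    rw [col_one_iff, hF]
    rcases h' with h' | h' <;> rw [h'] <;> norm_num
  · have h' : and (decide (k = 0)) (check ((tw v).map Ltr.prog) x [] (neg U x)) = true := h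
    rw [Bool.and_eq_true, decide_eq_true_eq] at h'
    show col M _ _ = 2
    apply col_two
    · rw [hF, h'.1]; norm_num
    · rw [comm_W]
      right
      have e := W_eq_of_check (v₂ := []) h'.2
      rw [W_nil, LinearEquiv.coe_one, id, vecU_neg] at e
      rw [map_smul, e, smul_neg]
  · have h' : decide (k = 1 ∨ k = -1) = true := h
    rw [decide_eq_true_eq] at h'
    show col M _ _ = 3
    apply col_three
    rw [hF]
    rcases h' with h' | h' <;> rw [h'] <;> norm_num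
  · have h' : and (decide (k = 0)) (ncheck v x i j) = true := h
    rw [Bool.and_eq_true, decide_eq_true_eq] at h'
    show col M _ _ = 4
    apply col_four
    · rw [hF, h'.1]; norm_num
    · rw [comm_W]
      exact ncheck_sound h'.2

end Cfsg.Agent.H995.BSchVal
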