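import Cfsg.Agent.H995.CopLarge
import Cfsg.Agent.H16.NunFi24
import Cfsg.Agent.NotCT.Orders

/-!
# No two classes of coprime sizes in `Fi24'` (helper995, for S4158)
-/

set_option autoImplicit false

namespace Cfsg.Agent.H995.CopTwo

open Subgroup Cfsg Cfsg.Agent.H530.Cop Cfsg.Agent.KFacts.FiTF

theorem noCop_fi24 {G : Type*} [Group G] [Finite G] [IsSimpleGroup G] (h : Spor.IsoFi24' G) : NoCop G := by
  obtain ⟨e⟩ := h
  have hc : Nat.card Spor.Fi24' = 1255205709190661721292800 := NotCT.Orders.fi24 ⟨MulEquiv.refl _⟩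
  have : Finite Spor.Fi24' := Finite.of_equiv G e.toEquiv
  have : Nontrivial Spor.Fi24' := e.symm.toEquiv.nontrivial
  have : IsSimpleGroup Spor.Fi24' := IsSimpleGroup.isSimpleGroup_of_surjective e.toMonoidHom e.surjective
  refine NoCop.congr e.symm ?_
  refine noCop_of_large (not_comm_of_card (by rw [hc]; norm_num)) (H16.NunFi24.largeK frame)
    1255205709190661721292800 321052999680 hc ?_
    [(3, 8), (5, 2), (7, 2), (11, 1), (13, 1), (17, 1), (23, 1), (29, 1)] (by decide +kernel) (by norm_num)
    ⟨22, by decide +kernel⟩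
  rw [← Order.card, ← card_map_of_injective (commutator Spor.Fi24).subtype_injective]
  refine card_dvd_of_le ?_
  rintro _ ⟨g, hg, rfl⟩
  rw [mem_centralizer_singleton_iff]
  exact congrArg Subtype.val (mem_centralizer_singleton_iff.1 hg)

end Cfsg.Agent.H995.CopTwo
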