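import Cfsg.Agent.H995.CopSmall
import Cfsg.Agent.H859.BigNum

/-!
# No two classes of coprime sizes in `J4` (helper995, for S4158)
-/

set_option autoImplicit false

namespace Cfsg.Agent.H995.CopTwo

open Subgroup Cfsg Cfsg.Agent.H530.Cop

theorem noCop_j4 {G : Type*} [Group G] (h : Spor.IsoJ4 G) : NoCop G := by
  obtain ⟨e⟩ := h
  refine NoCop.congr e.symm ?_
  have hf : Finite Spor.J4 := Cfsg.Agent.H858.FixJ4.facts.1
  have hs : IsSimpleGroup Spor.J4 := Cfsg.Agent.H859.BigPrime.isJ4.1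
  have hc : Nat.card Spor.J4 = 86775571046077562880 := Cfsg.Agent.H858.FixJ4.card_J4
  refine noCop_of_r (r := 43) (by norm_num) (by rw [hc]; norm_num) (by rw [hc]; norm_num) fun x hx => ?_
  have h1 := (Cfsg.Agent.H859.BigNum.data43 (P := zpowers x) (by rw [Nat.card_zpowers, hx])).1
  rwa [H729.PairBase.centralizer_zpowers_eq] at h1

end Cfsg.Agent.H995.CopTwo
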