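import Cfsg.Agent.H995.CopTh
import Cfsg.Agent.H995.CopSmall
import Cfsg.Agent.H995.CopFi24
import Cfsg.Agent.H995.CopJ4
import Cfsg.Agent.H995.CopM
import Cfsg.Agent.H995.CopB
import Cfsg.Agent.H845.CopLy
import Cfsg.Agent.H845.CopTits
import Cfsg.Agent.H30.CopSpor
import Cfsg.Agent.H981.CopHN
import Cfsg.Agent.H981.CopSuz
import Cfsg.Agent.H461.Cop.McL
import Cfsg.Agent.H461.Cop.ON
import Cfsg.Agent.H604.Cop.Conway

/-!
# No two classes of coprime sizes in the sporadic groups (helpers 995, 845, 30, 981, 461, 604; for S4158)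

`noCop_sporadic`: the Monster and the Baby Monster use the classification (`AllKnown`: every finite simple group is known).
-/

set_option autoImplicit false

namespace Cfsg.Agent.H995.CopTwo

open Cfsg Cfsg.Agent.H530.Cop Cfsg.Agent.H995.CopEngine

theorem noCop_sporadic (hK : AllKnown.{0}) {G : Type*} [Group G] [Finite G] [IsSimpleGroup G]
    (h : IsSporadicGroup G) : NoCop G := by
  rcases h with h | h | h | h | h | h | h | h | h | h | h | h | h | h | h | h | h | h | h | h | h | h | h | h | h | h
  · exact noCop_m11 h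
  · exact noCop_m12 h
  · exact noCop_m22 h
  · exact noCop_m23 h
  · exact noCop_m24 h
  · exact noCop_j1 h
  · exact noCop_j2 h
  · exact noCop_j3 h
  · exact noCop_j4 h
  · exact H604.Cop.Conway.noCop_co1 h
  · exact H604.Cop.Conway.noCop_co2 h
  · exact H604.Cop.Conway.noCop_co3 h
  · exact H461.Cop.noCop_mcl h
  · exact H30.CopSpor.noCop_hs h
  · exact H981.CopSuz.noCop_suz h
  · exact H30.CopSpor.noCop_he h
  · exact H30.CopSpor.noCop_ru h
  · exact H461.Cop.noCop_on h
  · exact H845.CopLy.noCop_ly h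
  · exact noCop_fi22 h
  · exact noCop_fi23 h
  · exact noCop_fi24 h
  · exact H981.CopHN.noCop_hn h
  · exact noCop_th h
  · exact noCop_b hK h
  · exact noCop_m hK h

theorem noCop_tits {G : Type*} [Group G] [Finite G] (h : Cfsg.Lie.IsoTits G) : NoCop G :=
  H845.CopTits.noCop_tits h

end Cfsg.Agent.H995.CopTwo
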