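import Cfsg.Agent.H995.CopLarge
import Cfsg.Agent.KFacts.Th.Main
import Cfsg.Agent.MonsterX.ThOneClass

/-!
# No two classes of coprime sizes in `Th` (helper995, for S4158)
-/

set_option autoImplicit false

namespace Cfsg.Agent.H995.CopTwo

open Subgroup Cfsg.Agent.H530.Cop

theorem noCop_th {G : Type*} [Group G] (h : Cfsg.Spor.IsoTh G) : NoCop G := by
  obtain ⟨e⟩ := h
  have hf : Finite Cfsg.Spor.Th := Cfsg.Agent.KFacts.Th.Main.finite
  have hs : IsSimpleGroup Cfsg.Spor.Th := Cfsg.Agent.Th.Main1700.isTh.1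
  have hc : Nat.card Cfsg.Spor.Th = 90745943887872000 := Cfsg.Agent.Th.Main1700.isTh.2
  refine NoCop.congr e.symm ?_
  exact noCop_of_large (not_comm_of_card (by rw [hc]; norm_num)) (Cfsg.Agent.KFacts.Th.Main.large Cfsg.Agent.KFacts.Th.Main.ctx)
    90745943887872000 92897280 hc
    (dvd_of_eq Cfsg.Agent.MonsterX.ThOneClass.card_a)
    [(3, 10), (5, 3), (7, 2), (13, 1), (19, 1), (31, 1)] (by decide +kernel) (by norm_num) ⟨15, by decide +kernel⟩

end Cfsg.Agent.H995.CopTwo
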